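import Cfsg.Agent.Lib.PrimitiveClass.Average

/-!
# Solvable groups of automorphisms of a full matrix algebra

If a solvable group acts on `M_n(ℂ)` with scalar fixed points, and the fixed algebra of every
normal subgroup has scalar centre, then the average over the group of the exponent of `p` in the
class size is at least the exponent of `p` in `n`.
-/

set_option autoImplicit false

namespace Cfsg.Agent.Lib.PrimitiveClass.Algebra

open Cfsg.Agent.Lib.PrimitiveMeta.Average

universe u

/-- The algebra of endomorphisms of `ℂ^n`. -/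
abbrev Mat (n : ℕ) := Module.End ℂ (Fin n → ℂ)

/-- Only scalars commute with everything. -/
theorem central_scalar {n : ℕ} (hn : 0 < n) (c : Mat n) (hc : ∀ x : Mat n, c * x = x * c) :
    ∃ a : ℂ, c = a • 1 := by
  refine ⟨c (Pi.single ⟨0, hn⟩ 1) ⟨0, hn⟩, LinearMap.ext fun v => ?_⟩
  have := LinearMap.congr_fun (hc (LinearMap.smulRight (LinearMap.proj (⟨0, hn⟩ : Fin n)) v))
    (Pi.single ⟨0, hn⟩ 1)
  simpa using this

variable {Γ : Type u} [Group Γ] {n : ℕ}

/-- The fixed points are scalar. -/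
def Irred (φ : Γ →* (Mat n ≃ₐ[ℂ] Mat n)) : Prop :=
  ∀ x, (∀ g, φ g x = x) → ∃ c : ℂ, x = c • (1 : Mat n)

/-- The fixed algebras of normal subgroups have scalar centres. -/
def QP (φ : Γ →* (Mat n ≃ₐ[ℂ] Mat n)) : Prop :=
  ∀ L : Subgroup Γ, L.Normal → ∀ z, (∀ l ∈ L, φ l z = z) →
    (∀ x, (∀ l ∈ L, φ l x = x) → z * x = x * z) → ∃ c : ℂ, z = c • (1 : Mat n)

/-- The exponent of `p` in the size of a class. -/
noncomputable def clsExp (p : ℕ) (g : Γ) : ℕ :=
  (Subgroup.centralizer ({g} : Set Γ)).index.factorization p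

/-- Summing a function of the image in a quotient. -/
theorem sum_quot [Fintype Γ] (N : Subgroup Γ) [N.Normal] [Fintype (Γ ⧸ N)] (f : Γ ⧸ N → ℕ) :
    Fintype.card (Γ ⧸ N) * ∑ g : Γ, f (g : Γ ⧸ N) = Fintype.card Γ * ∑ q, f q := by
  classical
  calc Fintype.card (Γ ⧸ N) * ∑ g : Γ, f (g : Γ ⧸ N)
      = ∑ q' : Γ ⧸ N, ∑ g : Γ, f ((g : Γ ⧸ N) * q') := by
        have h1 : ∀ q' : Γ ⧸ N,
            ∑ g : Γ, f ((g : Γ ⧸ N) * q') = ∑ g : Γ, f (g : Γ ⧸ N) := by
          intro q'
          obtain ⟨x, rfl⟩ := QuotientGroup.mk_surjective q'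
          exact Fintype.sum_equiv (Equiv.mulRight x) _ _ fun g => rfl
        rw [Finset.sum_congr rfl fun q' _ => h1 q', Finset.sum_const, Finset.card_univ,
          smul_eq_mul]
    _ = ∑ g : Γ, ∑ q' : Γ ⧸ N, f ((g : Γ ⧸ N) * q') := Finset.sum_comm
    _ = Fintype.card Γ * ∑ q, f q := by
        rw [Finset.sum_congr rfl fun (g : Γ) _ =>
          Fintype.sum_equiv (Equiv.mulLeft (g : Γ ⧸ N)) (fun q' => f ((g : Γ ⧸ N) * q')) f
            fun q' => rfl, Finset.sum_const, Finset.card_univ, smul_eq_mul]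

/-- Class sizes along a normal subgroup. -/
theorem clsExp_ge [Finite Γ] (p : ℕ) (N : Subgroup Γ) [N.Normal] (g : Γ) :
    clsExp p (g : Γ ⧸ N) + ((Subgroup.centralizer ({g} : Set Γ)).relIndex N).factorization p ≤
      clsExp p g := by
  set C := Subgroup.centralizer ({g} : Set Γ) with hC
  set D := (Subgroup.centralizer ({(g : Γ ⧸ N)} : Set (Γ ⧸ N))).comap (QuotientGroup.mk' N)
  have hle : C ⊔ N ≤ D := by
    refine sup_le (fun x hx => ?_) fun x hx => ?_
    · rw [hC, Subgroup.mem_centralizer_singleton_iff] at hx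
      rw [Subgroup.mem_comap, Subgroup.mem_centralizer_singleton_iff]
      simp only [QuotientGroup.mk'_apply, ← QuotientGroup.mk_mul, hx]
    · rw [Subgroup.mem_comap, Subgroup.mem_centralizer_singleton_iff, QuotientGroup.mk'_apply,
        (QuotientGroup.eq_one_iff x).mpr hx, one_mul, mul_one]
  have hD : D.index = (Subgroup.centralizer ({(g : Γ ⧸ N)} : Set (Γ ⧸ N))).index :=
    Subgroup.index_comap_of_surjective _ (QuotientGroup.mk'_surjective N)
  have hdvd : D.index * C.relIndex N ∣ C.index := by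
    have hsup : C.relIndex (C ⊔ N) = C.relIndex N := by
      refine mul_left_cancel₀ (Nat.card_pos (α := C)).ne' ?_
      have e1 := Subgroup.relIndex_mul_relIndex ⊥ C (C ⊔ N) bot_le le_sup_left
      have e2 := Subgroup.relIndex_mul_relIndex ⊥ N (C ⊔ N) bot_le le_sup_right
      have e3 := Subgroup.relIndex_mul_relIndex ⊥ (C ⊓ N) N bot_le inf_le_right
      have e4 := Subgroup.relIndex_mul_relIndex ⊥ (C ⊓ N) C bot_le inf_le_left
      rw [Subgroup.inf_relIndex_right] at e3
      rw [Subgroup.inf_relIndex_left] at e4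
      simp only [Subgroup.relIndex_bot_left, Subgroup.relIndex_sup_right] at e1 e2 e3 e4
      rw [e1, ← e2, ← e3, ← e4]
      ring
    rw [← Subgroup.relIndex_mul_index (le_sup_left : C ≤ C ⊔ N), hsup, mul_comm D.index]
    exact mul_dvd_mul_left _ (Subgroup.index_dvd_of_le hle)
  have h1 : D.index ≠ 0 := Subgroup.index_ne_zero_of_finite
  have h2 : C.relIndex N ≠ 0 := Subgroup.index_ne_zero_of_finite
  have := (Nat.factorization_le_iff_dvd (mul_ne_zero h1 h2) Subgroup.index_ne_zero_of_finite).mpr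
    hdvd p
  rw [Nat.factorization_mul h1 h2, Finsupp.add_apply] at this
  rw [clsExp, ← hD]
  exact this

variable (φ : Γ →* (Mat n ≃ₐ[ℂ] Mat n)) (N : Subgroup Γ)

/-- The fixed algebra. -/
def fixedAlg : Subalgebra ℂ (Mat n) where
  carrier := {x | ∀ g ∈ N, φ g x = x}
  mul_mem' := fun hx hy g hg => by rw [map_mul, hx g hg, hy g hg]
  add_mem' := fun hx hy g hg => by rw [map_add, hx g hg, hy g hg]
  algebraMap_mem' := fun c g _ => AlgEquiv.commutes _ c

variable [hN : N.Normal]

theorem map_mem_fixedAlg (g : Γ) {x : Mat n} (hx : x ∈ fixedAlg φ N) :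
    φ g x ∈ fixedAlg φ N := by
  intro m hm
  have h1 := hx _ (by simpa using hN.conj_mem m hm g⁻¹ : g⁻¹ * m * g ∈ N)
  calc φ m (φ g x) = φ (m * g) x := by rw [map_mul]; rfl
    _ = φ (g * (g⁻¹ * m * g)) x := by congr 2; group
    _ = φ g (φ (g⁻¹ * m * g) x) := by rw [map_mul]; rfl
    _ = φ g x := by rw [h1]

/-- The action on the fixed algebra. -/
noncomputable def resFixed : Γ →* (fixedAlg φ N ≃ₐ[ℂ] fixedAlg φ N) where
  toFun g :=
    { toFun := fun x => ⟨φ g x, map_mem_fixedAlg φ N g x.2⟩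
      invFun := fun x => ⟨φ g⁻¹ x, map_mem_fixedAlg φ N g⁻¹ x.2⟩
      left_inv := fun x => Subtype.ext (by
        show φ g⁻¹ (φ g x) = x
        rw [← AlgEquiv.mul_apply, ← map_mul, inv_mul_cancel, map_one]; rfl)
      right_inv := fun x => Subtype.ext (by
        show φ g (φ g⁻¹ x) = x
        rw [← AlgEquiv.mul_apply, ← map_mul, mul_inv_cancel, map_one]; rfl)
      map_mul' := fun x y => Subtype.ext (map_mul (φ g) (x : Mat n) y)
      map_add' := fun x y => Subtype.ext (map_add (φ g) (x : Mat n) y)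
      commutes' := fun c => Subtype.ext (AlgEquiv.commutes (φ g) c) }
  map_one' := AlgEquiv.ext fun x => Subtype.ext (by
    show φ 1 (x : Mat n) = x
    rw [map_one]; rfl)
  map_mul' a b := AlgEquiv.ext fun x => Subtype.ext (by
    show φ (a * b) (x : Mat n) = φ a (φ b x)
    rw [map_mul]; rfl)

/-- The action of the quotient on the fixed algebra. -/
noncomputable def quotFixed : Γ ⧸ N →* (fixedAlg φ N ≃ₐ[ℂ] fixedAlg φ N) :=
  QuotientGroup.lift N (resFixed φ N) fun m hm =>
    AlgEquiv.ext fun x => Subtype.ext (x.2 m hm)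

theorem quotFixed_mk (g : Γ) (x : fixedAlg φ N) :
    (quotFixed φ N (g : Γ ⧸ N) x : Mat n) = φ g x := rfl

omit hN in
/-- An abelian subgroup acting faithfully with scalar centre: the fixed algebra is a full matrix
algebra, and the degree drops by the square root of the order. -/
theorem exists_split [Finite Γ] (hn : 0 < n) (hcomm : ∀ a ∈ N, ∀ b ∈ N, a * b = b * a)
    (hinj : ∀ a ∈ N, φ a = 1 → a = 1)
    (hz : ∀ z, (∀ l ∈ N, φ l z = z) → (∀ x, (∀ l ∈ N, φ l x = x) → z * x = x * z) →
      ∃ c : ℂ, z = c • (1 : Mat n)) :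
    (∀ a ∈ N, (∀ b ∈ N, ∃ k : ℤ, b = a ^ k) → a = 1) ∧
    ∃ e : ℕ, 0 < e ∧ n * n = Nat.card N * (e * e) ∧
      Nonempty (fixedAlg φ N ≃ₐ[ℂ] Mat e) := by
  classical
  letI := Fintype.ofFinite N
  haveI : Nonempty (Fin n) := ⟨⟨0, hn⟩⟩
  haveI : Nontrivial (Mat n) := inferInstance
  have hu : ∀ a : N, ∃ u : (Mat n)ˣ, ∀ x, φ a x = u * x * (↑u⁻¹ : Mat n) := by
    intro a
    obtain ⟨T, hT⟩ := (φ a).eq_linearEquivConjAlgEquiv
    exact ⟨⟨T.toLinearMap, T.symm.toLinearMap, by ext v; simp, by ext v; simp⟩, fun x => by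
      rw [hT]; rfl⟩
  choose u hu using hu
  have hsame : ∀ (v w : (Mat n)ˣ),
      (∀ x, (v : Mat n) * x * (↑v⁻¹ : Mat n) = w * x * (↑w⁻¹ : Mat n)) →
        ∃ c : ℂ, (v : Mat n) = c • (w : Mat n) := by
    intro v w h
    obtain ⟨c, hc⟩ := central_scalar hn ((↑w⁻¹ : Mat n) * v) fun x => by
      have := congrArg (fun y => (↑w⁻¹ : Mat n) * y * v) (h x)
      simpa [mul_assoc] using this
    refine ⟨c, ?_⟩
    calc (v : Mat n) = w * ((↑w⁻¹ : Mat n) * v) := by simp
      _ = _ := by rw [hc, mul_smul_comm, mul_one]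
  -- eigenvalues
  have hω : ∀ a b : N, ∃ c : ℂ, φ a (u b : Mat n) = c • (u b : Mat n) := by
    intro a b
    let v : (Mat n)ˣ := Units.map ((φ a).toAlgHom.toRingHom.toMonoidHom) (u b)
    refine hsame v (u b) fun x => ?_
    have h1 : φ b x = φ a (φ b ((φ a).symm x)) := by
      have hab : φ a * φ b = φ b * φ a := by
        rw [← map_mul, ← map_mul, hcomm a a.2 b b.2]
      calc φ b x = φ b (φ a ((φ a).symm x)) := by rw [AlgEquiv.apply_symm_apply]
        _ = (φ b * φ a) ((φ a).symm x) := rfl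
        _ = _ := by rw [← hab]; rfl
    rw [← hu b x, h1, hu b, map_mul, map_mul, AlgEquiv.apply_symm_apply]
    rfl
  choose ω hω using hω
  have hne : ∀ b, (u b : Mat n) ≠ 0 := fun b => (u b).ne_zero
  have hωmul : ∀ a a' b, ω (a * a') b = ω a b * ω a' b := by
    intro a a' b
    refine smul_left_injective ℂ (hne b) ?_
    simp only [← hω, Subgroup.coe_mul, map_mul, AlgEquiv.mul_apply]
    rw [hω a' b, map_smul, hω a b, smul_smul, mul_comm]
  have hω0 : ∀ a b, ω a b ≠ 0 := by
    intro a b e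
    have := hω a b
    rw [e, zero_smul] at this
    exact hne b ((φ (a : Γ)).injective (this.trans (map_zero _).symm))
  have hω1 : ∀ b, ω 1 b = 1 := fun b => by
    have h := hωmul 1 1 b
    rw [one_mul] at h
    exact mul_left_cancel₀ (hω0 1 b) (h.symm.trans (mul_one _).symm)
  have hωinv : ∀ a b, ω a⁻¹ b = (ω a b)⁻¹ := fun a b =>
    eq_inv_of_mul_eq_one_left (by rw [← hωmul, inv_mul_cancel, hω1])
  have hswap : ∀ a b, ω a b * ω b a = 1 := by
    intro a b
    have h1 : (u a : Mat n) * u b = ω a b • ((u b : Mat n) * u a) := by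
      rw [← smul_mul_assoc, ← hω, hu]
      simp [mul_assoc]
    have h2 : (u b : Mat n) * u a = ω b a • ((u a : Mat n) * u b) := by
      rw [← smul_mul_assoc, ← hω, hu]
      simp [mul_assoc]
    have h3 : ((u a * u b : (Mat n)ˣ) : Mat n) ≠ 0 := (u a * u b).ne_zero
    refine smul_left_injective ℂ h3 ?_
    simp only [Units.val_mul, one_smul]
    rw [← smul_smul, ← h2, ← h1]
  have hmemR : ∀ (b : N) {x : Mat n}, (∀ l ∈ N, φ l x = x) →
      (u b : Mat n) * x = x * u b := by
    intro b x hx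
    have := congrArg (· * (u b : Mat n)) (hu b x)
    simp only [hx b b.2, mul_assoc, Units.inv_mul, mul_one] at this
    exact this.symm
  have hωeq : ∀ b b' : N, (∀ a, ω a b = ω a b') → b = b' := by
    intro b b' h
    let z : Mat n := (↑(u b')⁻¹ : Mat n) * u b
    have hφinv : ∀ a : N, φ a (↑(u b')⁻¹ : Mat n) = (ω a b')⁻¹ • (↑(u b')⁻¹ : Mat n) := by
      intro a
      have h1 : φ a (↑(u b')⁻¹ : Mat n) * φ a (u b') = 1 := by
        rw [← map_mul, Units.inv_mul, map_one]
      rw [hω, mul_smul_comm] at h1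
      calc φ a (↑(u b')⁻¹ : Mat n)
          = (ω a b')⁻¹ • (ω a b' • (φ a (↑(u b')⁻¹ : Mat n) * u b')) * (↑(u b')⁻¹ : Mat n) := by
            rw [smul_smul, inv_mul_cancel₀ (hω0 a b'), one_smul, mul_assoc, Units.mul_inv, mul_one]
        _ = _ := by rw [h1, smul_mul_assoc, one_mul]
    obtain ⟨c, hc⟩ := hz z (fun l hl => by
        show φ l ((↑(u b')⁻¹ : Mat n) * u b) = _
        rw [map_mul, hφinv ⟨l, hl⟩, hω ⟨l, hl⟩ b, smul_mul_smul_comm, h,
          inv_mul_cancel₀ (hω0 _ _), one_smul])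
      fun x hx => by
        show (↑(u b')⁻¹ : Mat n) * u b * x = x * ((↑(u b')⁻¹ : Mat n) * u b)
        have h1 : (↑(u b')⁻¹ : Mat n) * x = x * (↑(u b')⁻¹ : Mat n) :=
          (show Commute (u b' : Mat n) x from hmemR b' hx).units_inv_left.eq
        rw [mul_assoc, hmemR b hx, ← mul_assoc, h1, mul_assoc]
    have hub : (u b : Mat n) = c • (u b' : Mat n) := by
      calc (u b : Mat n) = (u b' : Mat n) * z := by simp [z]
        _ = _ := by rw [hc, mul_smul_comm, mul_one]
    have hc0 : c ≠ 0 := fun e => hne b (by rw [hub, e, zero_smul])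
    refine (inv_mul_eq_one.mp (Subtype.ext (hinj _ (b'⁻¹ * b : N).2 (AlgEquiv.ext fun x => ?_)) :
      b'⁻¹ * b = 1)).symm
    have h2 : φ b x = φ b' x := by
      rw [hu, hu]
      have hinv : (↑(u b)⁻¹ : Mat n) = c⁻¹ • (↑(u b')⁻¹ : Mat n) := by
        refine left_inv_eq_right_inv (Units.inv_mul (u b)) ?_
        rw [hub, smul_mul_smul_comm, mul_inv_cancel₀ hc0, one_smul, Units.mul_inv]
      rw [hinv, hub, smul_mul_assoc, smul_mul_smul_comm, mul_inv_cancel₀ hc0, one_smul]
    rw [Subgroup.coe_mul, map_mul, AlgEquiv.mul_apply, h2, ← AlgEquiv.mul_apply, ← map_mul,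
      Subgroup.coe_inv, inv_mul_cancel, map_one]
  refine ⟨fun a ha hgen => ?_, ?_⟩
  · have haa : ω ⟨a, ha⟩ ⟨a, ha⟩ = 1 := by
      refine smul_left_injective ℂ (hne ⟨a, ha⟩) ?_
      simp only [one_smul]
      rw [← hω, hu]
      simp [mul_assoc]
    refine congrArg Subtype.val (hωeq ⟨a, ha⟩ 1 fun b => ?_)
    obtain ⟨k, hk⟩ := hgen b b.2
    have hb : b = (⟨a, ha⟩ : N) ^ k := Subtype.ext (by simp [hk])
    have h1 : ω b (1 : N) = 1 := by
      have := hswap b 1
      rwa [hω1, mul_one] at this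
    rw [h1, hb]
    clear hb hk h1 b
    induction k with
    | zero => rw [zpow_zero, hω1]
    | succ i hi => rw [zpow_add_one, hωmul, hi, haa, one_mul]
    | pred i hi => rw [zpow_sub_one, hωmul, hi, hωinv, haa, inv_one, one_mul]
  -- orthogonality
  have hsum : ∀ {f : N → ℂ}, (∀ a b, f (a * b) = f a * f b) → (∃ a, f a ≠ 1) → ∑ a, f a = 0 := by
    intro f hf hne'
    obtain ⟨a, ha⟩ := hne'
    have : f a * ∑ b, f b = ∑ b, f b := by
      rw [Finset.mul_sum]
      exact Fintype.sum_equiv (Equiv.mulLeft a) _ _ fun b => (hf a b).symm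
    rcases mul_left_eq_self₀.mp this with h | h
    · exact absurd h ha
    · exact h
  have hrow : ∀ a : N, a ≠ 1 → ∑ b, ω b a = 0 := by
    intro a ha
    refine hsum (fun b b' => hωmul b b' a) ?_
    by_contra hno
    push Not at hno
    refine ha (hωeq a 1 fun b => ?_)
    have := hswap b 1
    rw [hω1, mul_one] at this
    rw [this, hno b]
  have hcard0 : (Fintype.card N : ℂ) ≠ 0 := Nat.cast_ne_zero.mpr Fintype.card_ne_zero
  let E : Mat n →ₗ[ℂ] Mat n := (Fintype.card N : ℂ)⁻¹ • ∑ a : N, (φ a).toLinearMap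
  have hE : ∀ x, E x = (Fintype.card N : ℂ)⁻¹ • ∑ a : N, φ a x := fun x => by
    simp [E, LinearMap.sum_apply]
  have hEmem : ∀ x, E x ∈ fixedAlg φ N := by
    intro x l hl
    rw [hE, map_smul, map_sum]
    congr 1
    exact Fintype.sum_equiv (Equiv.mulLeft (⟨l, hl⟩ : N)) _ _ fun a => by
      rw [Equiv.coe_mulLeft, Subgroup.coe_mul, map_mul]; rfl
  have hEfix : ∀ {x}, x ∈ fixedAlg φ N → E x = x := by
    intro x hx
    rw [hE, Finset.sum_congr rfl fun a _ => hx a.1 a.2, Finset.sum_const, Finset.card_univ,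
      ← Nat.cast_smul_eq_nsmul ℂ, smul_smul, inv_mul_cancel₀ hcard0, one_smul]
  have hEmul : ∀ w {r}, r ∈ fixedAlg φ N → E (w * r) = E w * r := by
    intro w r hr
    rw [hE, hE, smul_mul_assoc, Finset.sum_mul]
    refine congrArg _ (Finset.sum_congr rfl fun a _ => ?_)
    rw [map_mul, hr a.1 a.2]
  let R' := fixedAlg φ N
  have hdec : ∀ x, x = ∑ b : N, (u b : Mat n) * E ((↑(u b)⁻¹ : Mat n) * x) := by
    intro x
    have h1 : ∀ a b : N, (u b : Mat n) * φ a ((↑(u b)⁻¹ : Mat n) * x) = ω b a • φ a x := by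
      intro a b
      have h2 : φ a (u b : Mat n) * φ a ((↑(u b)⁻¹ : Mat n) * x) = φ a x := by
        rw [← map_mul, ← mul_assoc, Units.mul_inv, one_mul]
      rw [hω, smul_mul_assoc] at h2
      rw [← h2, smul_smul, hswap, one_smul]
    simp only [hE, mul_smul_comm, Finset.mul_sum, h1]
    rw [← Finset.smul_sum, Finset.sum_comm, Finset.sum_eq_single (1 : N)]
    · have : ∀ b : N, ω b (1 : N) = 1 := fun b => by
        have := hswap b 1
        rwa [hω1, mul_one] at this
      simp only [this, one_smul, Finset.sum_const, Finset.card_univ, OneMemClass.coe_one, map_one,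
        AlgEquiv.one_apply]
      rw [← Nat.cast_smul_eq_nsmul ℂ, smul_smul, inv_mul_cancel₀ hcard0, one_smul]
    · intro a _ ha
      rw [← Finset.sum_smul, hrow a ha, zero_smul]
    · exact fun h => absurd (Finset.mem_univ _) h
  let Φ : (N → R') →ₗ[ℂ] Mat n :=
    { toFun := fun r => ∑ b : N, (u b : Mat n) * (r b : Mat n)
      map_add' := fun r s => by simp [mul_add, Finset.sum_add_distrib]
      map_smul' := fun c r => by simp [Finset.smul_sum] }
  have hΦs : Function.Surjective Φ := fun x =>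
    ⟨fun b => ⟨_, hEmem _⟩, (hdec x).symm⟩
  have hΦi : Function.Injective Φ := by
    rw [injective_iff_map_eq_zero]
    intro r hr
    funext k
    refine Subtype.ext ?_
    have h0 : E ((↑(u k)⁻¹ : Mat n) * Φ r) = 0 := by rw [hr, mul_zero, map_zero]
    show (r k : Mat n) = 0
    rw [← h0]
    show _ = E ((↑(u k)⁻¹ : Mat n) * ∑ b : N, (u b : Mat n) * (r b : Mat n))
    rw [Finset.mul_sum, map_sum, Finset.sum_eq_single k]
    · rw [← mul_assoc, Units.inv_mul, one_mul, hEfix (r k).2]
    · intro b _ hbk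
      rw [← mul_assoc, hEmul _ (r b).2]
      have hz0 : E ((↑(u k)⁻¹ : Mat n) * u b) = 0 := by
        have h1 : ∀ a : N, φ a ((↑(u k)⁻¹ : Mat n) * u b) =
            ((ω a k)⁻¹ * ω a b) • ((↑(u k)⁻¹ : Mat n) * u b) := by
          intro a
          have h2 : φ a (u k : Mat n) * φ a ((↑(u k)⁻¹ : Mat n) * u b) = φ a (u b : Mat n) := by
            rw [← map_mul, ← mul_assoc, Units.mul_inv, one_mul]
          rw [hω, hω, smul_mul_assoc] at h2
          have h3 := congrArg (fun y => (ω a k)⁻¹ • ((↑(u k)⁻¹ : Mat n) * y)) h2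
          simp only [mul_smul_comm, smul_smul, inv_mul_cancel₀ (hω0 a k), one_smul,
            ← mul_assoc, Units.inv_mul, one_mul] at h3
          exact h3
        rw [hE]
        simp only [h1]
        rw [← Finset.sum_smul]
        have : ∑ a : N, (ω a k)⁻¹ * ω a b = 0 := by
          refine hsum (fun a a' => by rw [hωmul, hωmul, mul_inv]; ring) ?_
          by_contra hno
          push Not at hno
          refine hbk (hωeq b k fun a => ?_)
          calc ω a b = ω a k * ((ω a k)⁻¹ * ω a b) := by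
                rw [← mul_assoc, mul_inv_cancel₀ (hω0 a k), one_mul]
            _ = ω a k := by rw [hno a, mul_one]
        rw [this, zero_smul, smul_zero]
      rw [hz0, zero_mul]
    · exact fun h => absurd (Finset.mem_univ _) h
  haveI : Nontrivial R' := ⟨0, 1, fun e => zero_ne_one (congrArg Subtype.val e)⟩
  haveI : IsSimpleRing R' := IsSimpleRing.of_eq_bot_or_eq_top fun I => by
    by_cases hI : I = ⊥
    · exact Or.inl hI
    right
    obtain ⟨i, hiI, hi0⟩ : ∃ i ∈ I, i ≠ 0 := by
      by_contra hno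
      push Not at hno
      exact hI (le_antisymm (fun i hi => (TwoSidedIdeal.mem_bot _).mpr (hno i hi)) bot_le)
    have htop : TwoSidedIdeal.span ({(i : Mat n)} : Set (Mat n)) = ⊤ := by
      haveI : IsSimpleRing (Matrix (Fin n) (Fin n) ℂ) := inferInstance
      haveI : IsSimpleRing (Mat n) :=
        IsSimpleRing.of_ringEquiv (Matrix.toLinAlgEquiv' (R := ℂ) (n := Fin n)).toRingEquiv
          inferInstance
      refine (IsSimpleOrder.eq_bot_or_eq_top _).resolve_left fun e => hi0 (Subtype.ext ?_)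
      have := TwoSidedIdeal.subset_span (s := ({(i : Mat n)} : Set (Mat n))) rfl
      rw [SetLike.mem_coe, e, TwoSidedIdeal.mem_bot] at this
      exact this
    have key : ∀ x, x ∈ TwoSidedIdeal.span ({(i : Mat n)} : Set (Mat n)) →
        ∀ a b : Mat n, (⟨E (a * x * b), hEmem _⟩ : R') ∈ I := by
      intro x hx
      induction hx using TwoSidedIdeal.span_induction with
      | mem x hx =>
        intro a b
        rw [Set.mem_singleton_iff] at hx
        subst hx
        let r : N → R' := fun c => ⟨E ((↑(u c)⁻¹ : Mat n) * a), hEmem _⟩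
        let s : N → R' := fun c => ⟨E ((↑(u c)⁻¹ : Mat n) * b), hEmem _⟩
        have : (⟨E (a * i * b), hEmem _⟩ : R') = ∑ c : N, ∑ d : N,
            (⟨E ((u c : Mat n) * u d), hEmem _⟩ : R') * (r c * i * s d) := by
          refine Subtype.ext ?_
          simp only [AddSubmonoidClass.coe_finsetSum, MulMemClass.coe_mul]
          conv_lhs => rw [hdec a, hdec b, Finset.sum_mul, Finset.sum_mul, map_sum]
          refine Finset.sum_congr rfl fun c _ => ?_
          rw [Finset.mul_sum, map_sum]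
          refine Finset.sum_congr rfl fun d _ => ?_
          rw [← hEmul _ (mul_mem (mul_mem (r c).2 i.2) (s d).2)]
          congr 1
          have h1 := hmemR d (x := ((r c : Mat n) * i)) (mul_mem (r c).2 i.2)
          simp only [r, s] at h1 ⊢
          rw [mul_assoc (u c : Mat n), mul_assoc (u c : Mat n), mul_assoc (u c : Mat n)]
          congr 1
          rw [← mul_assoc _ (u d : Mat n), ← h1]
          simp [mul_assoc]
        rw [this]
        exact sum_mem fun c _ => sum_mem fun d _ =>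
          I.mul_mem_left _ _ (I.mul_mem_right _ _ (I.mul_mem_left _ _ hiI))
      | zero =>
        intro a b
        have : (⟨E (a * 0 * b), hEmem _⟩ : R') = 0 := Subtype.ext (by simp)
        rw [this]; exact zero_mem _
      | add x y _ _ hx hy =>
        intro a b
        have : (⟨E (a * (x + y) * b), hEmem _⟩ : R') =
            ⟨E (a * x * b), hEmem _⟩ + ⟨E (a * y * b), hEmem _⟩ :=
          Subtype.ext (by simp [mul_add, add_mul])
        rw [this]; exact add_mem (hx a b) (hy a b)
      | neg x _ hx =>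
        intro a b
        have : (⟨E (a * -x * b), hEmem _⟩ : R') = -⟨E (a * x * b), hEmem _⟩ :=
          Subtype.ext (by
            show E (a * -x * b) = -E (a * x * b)
            have h := congrArg E (show a * -x * b + a * x * b = 0 by
              rw [← add_mul, ← mul_add, neg_add_cancel, mul_zero, zero_mul])
            rw [map_add, map_zero] at h
            exact eq_neg_of_add_eq_zero_left h)
        rw [this]; exact neg_mem (hx a b)
      | left_absorb c x _ hx =>
        intro a b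
        simpa only [← mul_assoc] using hx (a * c) b
      | right_absorb c x _ hx =>
        intro a b
        simpa only [mul_assoc] using hx a (c * b)
    rw [← I.one_mem_iff]
    have h1 := key 1 (by rw [htop]; exact TwoSidedIdeal.mem_top _) 1 1
    have : (⟨E (1 * 1 * 1), hEmem _⟩ : R') = 1 := Subtype.ext (by
      rw [mul_one, mul_one]
      exact hEfix (one_mem _))
    rwa [this] at h1
  obtain ⟨e, he, ⟨ψ⟩⟩ := IsSimpleRing.exists_algEquiv_matrix_of_isAlgClosed ℂ R'
  refine ⟨e, Nat.pos_of_ne_zero he.out, ?_, ⟨ψ.trans Matrix.toLinAlgEquiv'⟩⟩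
  haveI : Module.Free ℂ R' := Module.Free.of_divisionRing ℂ R'
  have h1 := (LinearEquiv.ofBijective Φ ⟨hΦi, hΦs⟩).finrank_eq
  rw [Module.finrank_pi_fintype, Finset.sum_const, Finset.card_univ, smul_eq_mul,
    ψ.toLinearEquiv.finrank_eq, Module.finrank_matrix, Module.finrank_self, mul_one,
    Module.finrank_linearMap, Module.finrank_fin_fun] at h1
  rw [← h1, Nat.card_eq_fintype_card, Fintype.card_fin]

omit [Group Γ] in
/-- The induction. -/
theorem sum_le (p : ℕ) [Fact p.Prime] : ∀ (m : ℕ) (Γ : Type u) [Group Γ] [Fintype Γ]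
    [Group.IsSolvable Γ], Fintype.card Γ = m → ∀ (n : ℕ), 0 < n →
      ∀ φ : Γ →* (Mat n ≃ₐ[ℂ] Mat n), Irred φ → QP φ →
        Fintype.card Γ * n.factorization p ≤ ∑ g : Γ, clsExp p g := by
  classical
  intro m
  induction m using Nat.strong_induction_on with
  | _ m ih =>
  intro Γ _ _ _ hm n hn φ hirr hqp
  -- passing to a proper quotient
  have hquot : ∀ (N : Subgroup Γ) [N.Normal], N ≠ ⊥ → ∀ (k : ℕ), 0 < k →
      ∀ ψ : Γ ⧸ N →* (Mat k ≃ₐ[ℂ] Mat k), Irred ψ → QP ψ →
        Fintype.card Γ * k.factorization p ≤ ∑ g : Γ, clsExp p (g : Γ ⧸ N) := by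
    intro N _ hN k hk ψ h1 h2
    letI := Fintype.ofFinite (Γ ⧸ N)
    have hlt : Fintype.card (Γ ⧸ N) < m := by
      rw [← hm, Fintype.card_eq_nat_card, Fintype.card_eq_nat_card,
        ← N.card_mul_index, Subgroup.index_eq_card]
      exact lt_mul_of_one_lt_left Nat.card_pos (N.one_lt_card_iff_ne_bot.mpr hN)
    haveI : Group.IsSolvable (Γ ⧸ N) :=
      Group.isSolvable_of_surjective (QuotientGroup.mk'_surjective N)
    have hi := ih _ hlt (Γ ⧸ N) rfl k hk ψ h1 h2
    refine Nat.le_of_mul_le_mul_left ?_ (Fintype.card_pos (α := Γ ⧸ N))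
    rw [sum_quot N, mul_left_comm]
    exact Nat.mul_le_mul_left _ hi
  by_cases hK : φ.ker = ⊥
  swap
  · refine (hquot φ.ker hK n hn (QuotientGroup.kerLift φ) (fun x hx => hirr x fun g => ?_)
      fun L hL z hz hzc => ?_).trans (Finset.sum_le_sum fun g _ => ?_)
    · exact hx g
    · refine hqp (L.comap (QuotientGroup.mk' φ.ker)) (hL.comap _) z (fun l hl => hz _ hl)
        fun x hx => hzc x fun l hl => ?_
      obtain ⟨g, rfl⟩ := QuotientGroup.mk'_surjective φ.ker l
      exact hx g hl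
    · exact le_trans (Nat.le_add_right _ _) (clsExp_ge p φ.ker g)
  rcases subsingleton_or_nontrivial Γ with hS | hS
  · have hall : ∀ x : Mat n, ∃ c : ℂ, x = c • 1 := fun x => hirr x fun g => by
      rw [Subsingleton.elim g 1, map_one]; rfl
    have h1 : Module.finrank ℂ (Mat n) ≤ 1 :=
      finrank_le_one 1 fun w => (hall w).imp fun c hc => hc.symm
    rw [Module.finrank_linearMap, Module.finrank_fin_fun] at h1
    have : n = 1 := by nlinarith
    simp [this]
  -- a minimal normal subgroup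
  obtain ⟨N, ⟨hNn, hN0⟩, hNmin⟩ : ∃ N : Subgroup Γ, (N.Normal ∧ N ≠ ⊥) ∧
      ∀ M : Subgroup Γ, M.Normal → M ≠ ⊥ → M ≤ N → M = N := by
    obtain ⟨N, hN⟩ := (Set.toFinite {N : Subgroup Γ | N.Normal ∧ N ≠ ⊥}).exists_minimal
      ⟨⊤, inferInstance, top_ne_bot⟩
    exact ⟨N, hN.prop, fun M h1 h2 h3 => le_antisymm h3 (hN.le_of_le ⟨h1, h2⟩ h3)⟩
  haveI := hNn
  have hNc : ∀ a ∈ N, ∀ b ∈ N, a * b = b * a := by
    by_contra hno
    have hle : ⁅N, N⁆ ≤ N := Subgroup.commutator_le_left N N
    have hne' : ⁅N, N⁆ ≠ ⊥ := by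
      intro e
      refine hno fun a ha b hb => ?_
      have := Subgroup.commutator_mem_commutator ha hb
      rw [e, Subgroup.mem_bot] at this
      exact commutatorElement_eq_one_iff_mul_comm.mp this
    have heq := hNmin _ inferInstance hne' hle
    have hd : ∀ i, N ≤ derivedSeries Γ i := by
      intro i
      induction i with
      | zero => simp
      | succ i hi =>
        rw [derivedSeries_succ, ← heq]
        exact Subgroup.commutator_mono hi hi
    obtain ⟨i, hi⟩ := (Group.isSolvable_def Γ).mp inferInstance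
    exact hN0 (le_bot_iff.mp (hi ▸ hd i))
  have hinj : ∀ a ∈ N, φ a = 1 → a = 1 := fun a _ h => by
    have : a ∈ φ.ker := h
    rwa [hK, Subgroup.mem_bot] at this
  obtain ⟨hcyc, e, he, hdim, ⟨ψ⟩⟩ := exists_split φ N hn hNc hinj (fun z h1 h2 => hqp N hNn z h1 h2)
  let φ' : Γ ⧸ N →* (Mat e ≃ₐ[ℂ] Mat e) :=
    { toFun := fun q => ψ.symm.trans ((quotFixed φ N q).trans ψ)
      map_one' := AlgEquiv.ext fun x => by simp [AlgEquiv.one_apply]
      map_mul' := fun a b => AlgEquiv.ext fun x => by simp [AlgEquiv.mul_apply] }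
  have hφ' : ∀ (g : Γ) (x : fixedAlg φ N), φ g x = x ↔ φ' (g : Γ ⧸ N) (ψ x) = ψ x := by
    intro g x
    show _ ↔ ψ (quotFixed φ N (g : Γ ⧸ N) (ψ.symm (ψ x))) = ψ x
    rw [ψ.symm_apply_apply, ψ.injective.eq_iff, Subtype.ext_iff, quotFixed_mk]
  have hscal : ∀ (x : fixedAlg φ N) (c : ℂ), (x : Mat n) = c • 1 → ψ x = c • 1 := by
    intro x c h
    have : x = c • 1 := Subtype.ext h
    rw [this, map_smul, map_one]
  have hirr' : Irred φ' := by
    intro y hy
    obtain ⟨x, rfl⟩ := ψ.surjective y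
    obtain ⟨c, hc⟩ := hirr x fun g => (hφ' g x).mpr (hy _)
    exact ⟨c, hscal x c hc⟩
  have hqp' : QP φ' := by
    intro L hL z hz hzc
    obtain ⟨x, rfl⟩ := ψ.surjective z
    obtain ⟨c, hc⟩ := hqp (L.comap (QuotientGroup.mk' N)) (hL.comap _) x
      (fun l hl => (hφ' l x).mpr (hz _ hl)) fun w hw => by
        have hwR : w ∈ fixedAlg φ N := fun m hm => hw m (by
          rw [Subgroup.mem_comap, QuotientGroup.mk'_apply, (QuotientGroup.eq_one_iff m).mpr hm]
          exact one_mem _)
        have := hzc (ψ ⟨w, hwR⟩) fun l hl => by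
          obtain ⟨g, rfl⟩ := QuotientGroup.mk'_surjective N l
          exact (hφ' g ⟨w, hwR⟩).mp (hw g hl)
        rw [← map_mul, ← map_mul, ψ.injective.eq_iff] at this
        exact congrArg Subtype.val this
    exact ⟨c, hscal x c hc⟩
  have hi := hquot N hN0 e he φ' hirr' hqp'
  -- the chief factor
  set fN : Γ → ℕ := fun g => ((Subgroup.centralizer ({g} : Set Γ)).relIndex N).factorization p
  suffices hN2 : Fintype.card Γ * (Nat.card N).factorization p ≤ 2 * ∑ g, fN g by
    have hdim' : 2 * n.factorization p = (Nat.card N).factorization p + 2 * e.factorization p := by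
      have := congrArg (fun k => k.factorization p) hdim
      simp only [Nat.factorization_mul hn.ne' hn.ne',
        Nat.factorization_mul Nat.card_pos.ne' (mul_ne_zero he.ne' he.ne'),
        Nat.factorization_mul he.ne' he.ne', Finsupp.add_apply] at this
      omega
    have htot : ∑ g : Γ, clsExp p (g : Γ ⧸ N) + ∑ g, fN g ≤ ∑ g : Γ, clsExp p g := by
      rw [← Finset.sum_add_distrib]
      exact Finset.sum_le_sum fun g _ => clsExp_ge p N g
    nlinarith
  by_cases hp : p ∣ Nat.card N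
  swap
  · rw [Nat.factorization_eq_zero_of_not_dvd hp, mul_zero]
    exact Nat.zero_le _
  letI hNcomm : CommGroup N :=
    { (inferInstance : Group N) with mul_comm := fun a b => Subtype.ext (hNc a a.2 b b.2) }
  have hpN : IsPGroup p N := by
    let M : Subgroup Γ :=
      { carrier := {a | a ∈ N ∧ ∃ j, a ^ p ^ j = 1}
        one_mem' := ⟨one_mem _, 0, by simp⟩
        mul_mem' := fun {a b} ha hb => by
          obtain ⟨ha, i, hi⟩ := ha
          obtain ⟨hb, j, hj⟩ := hb
          refine ⟨mul_mem ha hb, i + j, ?_⟩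
          rw [(show Commute a b from hNc a ha b hb).mul_pow, pow_add, pow_mul, hi, one_pow,
            one_mul, mul_comm, pow_mul, hj, one_pow]
        inv_mem' := fun {a} ha => ⟨inv_mem ha.1, ha.2.imp fun j hj => by rw [inv_pow, hj, inv_one]⟩ }
    have hMn : M.Normal := ⟨fun a ha g => ⟨hNn.conj_mem a ha.1 g,
      ha.2.imp fun j hj => by rw [conj_pow, hj, mul_one, mul_inv_cancel]⟩⟩
    obtain ⟨a, ha⟩ := exists_prime_orderOf_dvd_card' (G := N) p hp
    have haM : (a : Γ) ∈ M := ⟨a.2, 1, by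
      rw [pow_one, ← SubmonoidClass.coe_pow, ← ha, pow_orderOf_eq_one]; rfl⟩
    have hM0 : M ≠ ⊥ := fun e' => by
      rw [e', Subgroup.mem_bot] at haM
      rw [show a = 1 from Subtype.ext haM, orderOf_one] at ha
      exact (Fact.out : p.Prime).ne_one ha.symm
    have hMN := hNmin M hMn hM0 fun x hx => hx.1
    intro x
    obtain ⟨j, hj⟩ := (hMN.symm ▸ x.2 : (x : Γ) ∈ M).2
    exact ⟨j, Subtype.ext (by rw [SubmonoidClass.coe_pow, hj]; rfl)⟩
  let f : Γ →* MulAut N := MulAut.conjNormal
  have hne : ∃ g, f g ≠ 1 := by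
    by_contra hno
    push Not at hno
    obtain ⟨a, ha, ha1⟩ := N.bot_or_exists_ne_one.resolve_left hN0
    have hcen : ∀ g : Γ, g * a = a * g := fun g => by
      have := congrArg Subtype.val (DFunLike.congr_fun (hno g) ⟨a, ha⟩)
      simp only [f, MulAut.conjNormal_apply, MulAut.one_apply] at this
      exact mul_inv_eq_iff_eq_mul.mp this
    have hzn : (Subgroup.zpowers a).Normal := ⟨fun x hx g => by
      obtain ⟨k, rfl⟩ := hx
      show g * a ^ k * g⁻¹ ∈ _
      rw [((show Commute g a from hcen g).zpow_right k).eq, mul_inv_cancel_right]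
      exact Subgroup.zpow_mem_zpowers a k⟩
    have hz := hNmin _ hzn (fun e' => ha1 (Subgroup.mem_bot.mp (e' ▸ Subgroup.mem_zpowers a)))
      (Subgroup.zpowers_le.mpr ha)
    refine ha1 (hcyc a ha fun b hb => ?_)
    rw [← hz] at hb
    obtain ⟨k, hk⟩ := hb
    exact ⟨k, hk.symm⟩
  have hirrN : ∀ U : Subgroup N, (∀ g, ∀ u ∈ U, f g u ∈ U) → U = ⊥ ∨ U = ⊤ := by
    intro U hU
    by_cases hU0 : U = ⊥
    · exact Or.inl hU0
    right
    have hUn : (U.map N.subtype).Normal := ⟨fun x hx g => by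
      obtain ⟨y, hy, rfl⟩ := hx
      exact ⟨f g y, hU g y hy, MulAut.conjNormal_apply g y⟩⟩
    have := hNmin _ hUn (fun e' => hU0 ((Subgroup.map_eq_bot_iff_of_injective _
      N.subtype_injective).mp e')) (Subgroup.map_subtype_le U)
    refine Subgroup.map_injective N.subtype_injective ?_
    rw [this, ← MonoidHom.range_eq_map, Subgroup.range_subtype]
  have hav := Average.prod_fix_sq_le hpN f hne hirrN
  obtain ⟨k, hk⟩ := IsPGroup.iff_card.mp hpN
  have hfix : ∀ g, fix (f g) = (Subgroup.centralizer ({g} : Set Γ)).subgroupOf N := by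
    intro g
    ext x
    rw [mem_fix, Subgroup.mem_subgroupOf, Subgroup.mem_centralizer_singleton_iff, Subtype.ext_iff,
      MulAut.conjNormal_apply, mul_inv_eq_iff_eq_mul]
    exact eq_comm
  have hc : ∀ g, ∃ c, Nat.card (fix (f g)) = p ^ c := fun g =>
    IsPGroup.iff_card.mp (hpN.to_subgroup _)
  choose c hc using hc
  have hfN : ∀ g, fN g + c g = k := by
    intro g
    have h := (fix (f g)).card_mul_index
    rw [hc, hk] at h
    have h1 := congrArg (fun x => x.factorization p) h
    simp only [Nat.factorization_mul (pow_ne_zero _ (Fact.out : p.Prime).ne_zero)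
      Subgroup.index_ne_zero_of_finite, Finsupp.add_apply,
      Nat.factorization_pow_self (Fact.out : p.Prime)] at h1
    rw [hfix] at h1
    show ((Subgroup.centralizer ({g} : Set Γ)).subgroupOf N).index.factorization p + c g = k
    omega
  rw [Finset.prod_congr rfl fun g _ => hc g, Finset.prod_pow_eq_pow_sum, hk, ← pow_mul,
    ← pow_mul, Nat.pow_le_pow_iff_right (Fact.out : p.Prime).one_lt] at hav
  rw [hk, Nat.factorization_pow_self (Fact.out : p.Prime)]
  have hs : ∑ g, fN g + ∑ g, c g = Fintype.card Γ * k := by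
    rw [← Finset.sum_add_distrib, Finset.sum_congr rfl fun g _ => hfN g, Finset.sum_const,
      Finset.card_univ, smul_eq_mul]
  nlinarith

end Cfsg.Agent.Lib.PrimitiveClass.Algebra
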