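import Cfsg.Agent.Lib.PrimitiveMeta.Average

/-!
# Averaged fixed points of a solvable group acting irreducibly

A finite solvable group acting irreducibly and non-trivially on a finite abelian `p`-group `V`
has, in the multiplicative average, at most `√|V|` fixed points.
-/

set_option autoImplicit false

namespace Cfsg.Agent.Lib.PrimitiveClass.Average

open Cfsg.Agent.Lib.PrimitiveMeta.Average

universe u w

variable {V : Type u} [CommGroup V]

/-- The common fixed points of a set of automorphisms. -/
def fixAll (S : Subgroup (MulAut V)) : Subgroup V where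
  carrier := {v | ∀ a ∈ S, a v = v}
  one_mem' := fun a _ => map_one a
  mul_mem' := fun hx hy a ha => by rw [map_mul, hx a ha, hy a ha]
  inv_mem' := fun hx a ha => by rw [map_inv, hx a ha]

theorem mem_fixAll {S : Subgroup (MulAut V)} {v : V} : v ∈ fixAll S ↔ ∀ a ∈ S, a v = v := Iff.rfl

variable [Finite V]

/-- If `a` moves every common fixed point of `h`, the fixed points of `h` and `h a` multiply to at
most `|V|`. -/
theorem pair_le {h a : MulAut V} (ha : ∀ v, a v = v → h v = v → v = 1) :
    Nat.card (fix h) * Nat.card (fix (h * a)) ≤ Nat.card V := by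
  have hdis : Disjoint (fix h) (fix (h * a)) := by
    rw [Subgroup.disjoint_def]
    intro v h1 h2
    rw [mem_fix] at h1
    rw [mem_fix, MulAut.mul_apply] at h2
    exact ha v (h.injective (h2.trans h1.symm)) h1
  have := Nat.card_le_card_of_injective _ (Subgroup.mul_injective_of_disjoint hdis)
  rwa [Nat.card_prod] at this

/-- The restriction of an automorphism to an invariant subgroup. -/
noncomputable def resAut (U : Subgroup V) (x : MulAut V) (hx : U.map x.toMonoidHom = U) :
    MulAut U :=
  (x.subgroupMap U).trans (MulEquiv.subgroupCongr hx)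

theorem resAut_apply (U : Subgroup V) (x : MulAut V) (hx : U.map x.toMonoidHom = U) (u : U) :
    (resAut U x hx u : V) = x u := rfl

/-- The automorphisms leaving a subgroup invariant. -/
def stabSub (U : Subgroup V) : Subgroup (MulAut V) where
  carrier := {x | ∀ u, x u ∈ U ↔ u ∈ U}
  one_mem' := fun _ => Iff.rfl
  mul_mem' := fun {x y} hx hy u => by rw [MulAut.mul_apply]; exact (hx _).trans (hy u)
  inv_mem' := fun {x} hx u => by
    have := hx (x⁻¹ u)
    rw [MulAut.apply_inv_self] at this
    exact this.symm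

omit [Finite V] in
theorem map_eq_of_mem_stabSub {U : Subgroup V} {x : MulAut V} (hx : x ∈ stabSub U) :
    U.map x.toMonoidHom = U := by
  refine le_antisymm ?_ fun u hu => ⟨x⁻¹ u, ?_, MulAut.apply_inv_self _ _ _⟩
  · rintro _ ⟨u, hu, rfl⟩
    exact (hx u).mpr hu
  · exact (inv_mem hx u).mpr hu

/-- Restriction to an invariant subgroup. -/
noncomputable def resHom (U : Subgroup V) : stabSub U →* MulAut U where
  toFun x := resAut U x (map_eq_of_mem_stabSub x.2)
  map_one' := MulEquiv.ext fun u => Subtype.ext (by rw [resAut_apply]; rfl)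
  map_mul' x y := MulEquiv.ext fun u => Subtype.ext (by
    rw [resAut_apply, MulAut.mul_apply, resAut_apply, resAut_apply]; rfl)

/-- The induced action on the quotient by an invariant subgroup. -/
noncomputable def quoHom (U : Subgroup V) : stabSub U →* MulAut (V ⧸ U) where
  toFun x := QuotientGroup.congr U U (x : MulAut V) (map_eq_of_mem_stabSub x.2)
  map_one' := MulEquiv.ext fun v => by
    induction v using QuotientGroup.induction_on with
    | _ v => rfl
  map_mul' x y := MulEquiv.ext fun v => by
    induction v using QuotientGroup.induction_on with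
    | _ v => rfl

/-- Fixed points of an automorphism are bounded through an invariant subgroup. -/
theorem fix_le_mul (U : Subgroup V) (x : stabSub U) :
    Nat.card (fix (x : MulAut V)) ≤
      Nat.card (fix (resHom U x)) * Nat.card (fix (quoHom U x)) := by
  let d : fix (x : MulAut V) →* V ⧸ U := (QuotientGroup.mk' U).comp (fix (x : MulAut V)).subtype
  rw [← Subgroup.card_mul_index d.ker, Subgroup.index_ker]
  refine Nat.mul_le_mul (Nat.card_le_card_of_injective
    (fun v : d.ker => (⟨⟨((v : fix (x : MulAut V)) : V),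
      (QuotientGroup.eq_one_iff _).mp (MonoidHom.mem_ker.mp v.2)⟩,
      Subtype.ext (v : fix (x : MulAut V)).2⟩ : fix (resHom U x))) ?_)
    (Nat.card_le_card_of_injective (fun y : d.range => (⟨(y : V ⧸ U), by
      obtain ⟨v, hv⟩ := y.2
      rw [mem_fix, ← hv]
      exact congrArg QuotientGroup.mk v.2⟩ : fix (quoHom U x))) ?_)
  · intro a b h
    exact Subtype.ext (Subtype.ext (congrArg (fun t => ((t : U) : V)) (congrArg Subtype.val h)))
  · intro a b h
    exact Subtype.ext (congrArg (fun t : fix (quoHom U x) => (t : V ⧸ U)) h)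

/-- The orbit sum of a vector under a group of automorphisms. -/
noncomputable def orbitProd (B : Subgroup (MulAut V)) : V →* V :=
  haveI : Finite (MulAut V) := Finite.of_injective (fun φ : MulAut V => (φ : V → V))
    DFunLike.coe_injective
  letI := Fintype.ofFinite B
  ∏ b : B, ((b : MulAut V).toMonoidHom)

theorem orbitProd_apply (B : Subgroup (MulAut V)) [Fintype B] (v : V) :
    orbitProd B v = ∏ b : B, (b : MulAut V) v := by
  unfold orbitProd
  rw [MonoidHom.finsetProd_apply]
  exact Finset.prod_congr (by ext; simp) fun b _ => rfl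

theorem orbitProd_mem (B : Subgroup (MulAut V)) (v : V) : orbitProd B v ∈ fixAll B := by
  classical
  haveI : Finite (MulAut V) := Finite.of_injective (fun φ : MulAut V => (φ : V → V))
    DFunLike.coe_injective
  letI := Fintype.ofFinite B
  intro a ha
  rw [orbitProd_apply, map_prod]
  exact Fintype.prod_equiv (Equiv.mulLeft (⟨a, ha⟩ : B)) _ _ fun b => rfl

theorem orbitProd_of_mem {B : Subgroup (MulAut V)} {v : V} (hv : v ∈ fixAll B) :
    orbitProd B v = v ^ Nat.card B := by
  classical
  haveI : Finite (MulAut V) := Finite.of_injective (fun φ : MulAut V => (φ : V → V))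
    DFunLike.coe_injective
  letI := Fintype.ofFinite B
  rw [orbitProd_apply, Finset.prod_congr rfl fun b (_ : b ∈ Finset.univ) => hv b.1 b.2]
  rw [Finset.prod_const, Finset.card_univ, Fintype.card_eq_nat_card]

theorem orbitProd_comm {B : Subgroup (MulAut V)} {x : MulAut V}
    (hx : ∀ b, x * b * x⁻¹ ∈ B ↔ b ∈ B) (v : V) : x (orbitProd B v) = orbitProd B (x v) := by
  classical
  haveI : Finite (MulAut V) := Finite.of_injective (fun φ : MulAut V => (φ : V → V))
    DFunLike.coe_injective
  letI := Fintype.ofFinite B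
  rw [orbitProd_apply, orbitProd_apply, map_prod]
  refine Fintype.prod_equiv
    (Equiv.subtypeEquiv (MulAut.conj x).toEquiv fun b => (hx b).symm) _ _ fun b => ?_
  show x ((b : MulAut V) v) = (x * (b : MulAut V) * x⁻¹) (x v)
  simp

theorem orbitProd_conj (B : Subgroup (MulAut V)) (x : MulAut V) (v : V) :
    orbitProd (B.map (MulAut.conj x).toMonoidHom) (x v) = x (orbitProd B v) := by
  classical
  haveI : Finite (MulAut V) := Finite.of_injective (fun φ : MulAut V => (φ : V → V))
    DFunLike.coe_injective
  letI := Fintype.ofFinite B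
  obtain ⟨B', hB'⟩ : ∃ B', B' = B.map (MulAut.conj x).toMonoidHom := ⟨_, rfl⟩
  letI := Fintype.ofFinite B'
  rw [← hB', orbitProd_apply B', orbitProd_apply B, map_prod]
  refine (Fintype.prod_equiv (Equiv.subtypeEquiv (MulAut.conj x).toEquiv fun b => ?_) _ _
    fun b => ?_).symm
  · rw [hB']
    exact ⟨fun hb => ⟨b, hb, rfl⟩, fun ⟨c, hc, e⟩ => (MulAut.conj x).injective e ▸ hc⟩
  show x ((b : MulAut V) v) = (x * (b : MulAut V) * x⁻¹) (x v)
  simp

omit [Finite V] in
theorem fixAll_conj (B : Subgroup (MulAut V)) (x : MulAut V) {v : V} (hv : v ∈ fixAll B) :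
    x v ∈ fixAll (B.map (MulAut.conj x).toMonoidHom) := by
  rintro _ ⟨b, hb, rfl⟩
  show (x * b * x⁻¹) (x v) = x v
  simp [hv b hb]

/-- One coset of an abelian group without fixed points. -/
theorem coset_bound : ∀ (n : ℕ) (V : Type u) [CommGroup V] [Finite V], Nat.card V = n →
    ∀ (h : MulAut V) (A : Subgroup (MulAut V)) [Fintype A],
      (∀ a ∈ A, h * a * h⁻¹ ∈ A) → (∀ a ∈ A, ∀ b ∈ A, a * b = b * a) →
      (Nat.card A).Coprime (Nat.card V) → fixAll A = ⊥ →
        (∏ a : A, Nat.card (fix (h * (a : MulAut V)))) ^ 2 ≤ Nat.card V ^ Fintype.card A := by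
  classical
  intro n
  induction n using Nat.strong_induction_on with
  | _ n ih =>
  intro V _ _ hn h A _ hnorm hcomm hcop hfix
  haveI : Finite (MulAut V) := Finite.of_injective (fun φ : MulAut V => (φ : V → V))
    DFunLike.coe_injective
  rcases subsingleton_or_nontrivial V with hV | hV
  · have h1 : ∀ a : A, Nat.card (fix (h * (a : MulAut V))) = 1 := fun a => Nat.card_unique
    simp [h1]
  have hvpow : ∀ (k : ℕ), k ∣ Nat.card A → ∀ v : V, v ^ k = 1 → v = 1 := fun k hk v hv =>
    orderOf_eq_one_iff.mp (Nat.eq_one_of_dvd_coprimes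
      (Nat.Coprime.coprime_dvd_left hk hcop) (orderOf_dvd_of_pow_eq_one hv)
      (orderOf_dvd_natCard v))
  by_cases hred : ∃ U : Subgroup V, U ≠ ⊥ ∧ U ≠ ⊤ ∧ h ∈ stabSub U ∧ A ≤ stabSub U
  · obtain ⟨U, hU0, hU1, hh, hA⟩ := hred
    let ι : A →* stabSub U := Subgroup.inclusion hA
    let h' : stabSub U := ⟨h, hh⟩
    let AU : Subgroup (MulAut U) := ((resHom U).comp ι).range
    let AQ : Subgroup (MulAut (V ⧸ U)) := ((quoHom U).comp ι).range
    have hcard : Nat.card U * Nat.card (V ⧸ U) = Nat.card V := U.card_mul_index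
    have hUlt : Nat.card U < n := hn ▸ lt_of_le_of_ne (Subgroup.card_le_card_group U)
      fun e => hU1 (Subgroup.eq_top_of_card_eq U e)
    have hQlt : Nat.card (V ⧸ U) < n := by
      rw [← hn, ← hcard]
      exact lt_mul_of_one_lt_left Nat.card_pos ((Subgroup.one_lt_card_iff_ne_bot U).mpr hU0)
    have hconj : ∀ a : A, ∃ b : A, ι b = h' * ι a * h'⁻¹ :=
      fun a => ⟨⟨_, hnorm a a.2⟩, rfl⟩
    -- a general step for both factors
    have hgen : ∀ (W : Type u) [CommGroup W] [Finite W] (π : stabSub U →* MulAut W),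
        Nat.card W < n → (Nat.card A).Coprime (Nat.card W) →
        fixAll ((π.comp ι).range) = ⊥ →
        (∏ a : A, Nat.card (fix (π (h' * ι a)))) ^ 2 ≤ Nat.card W ^ Fintype.card A := by
      intro W _ _ π hlt hco hf
      haveI : Finite (MulAut W) := Finite.of_injective (fun φ : MulAut W => (φ : W → W))
        DFunLike.coe_injective
      letI : Fintype (π.comp ι).range := Fintype.ofFinite _
      let K := (π.comp ι).range
      have hKcard : Nat.card K ∣ Nat.card A :=
        Subgroup.card_dvd_of_surjective _ (π.comp ι).rangeRestrict_surjective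
      have hi := ih _ hlt W rfl (π h') K (by
          rintro _ ⟨a, rfl⟩
          obtain ⟨b, hb⟩ := hconj a
          exact ⟨b, by simp [hb]⟩)
        (by
          rintro _ ⟨a, rfl⟩ _ ⟨b, rfl⟩
          rw [← map_mul, ← map_mul, Subtype.ext (hcomm a a.2 b b.2) (a1 := a * b) (a2 := b * a)])
        (Nat.Coprime.coprime_dvd_left hKcard hco) hf
      set F : MulAut W → ℕ := fun x => Nat.card (fix x)
      have e1 : ∀ k : K, ∏ a : A, F (π h' * ((π.comp ι) a * (k : MulAut W))) =
          ∏ a : A, F (π (h' * ι a)) := by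
        rintro ⟨_, b, rfl⟩
        refine Fintype.prod_equiv (Equiv.mulRight b) _ _ fun a => ?_
        simp [map_mul]
      have e2 : ∀ a : A, ∏ k : K, F (π h' * ((π.comp ι) a * (k : MulAut W))) =
          ∏ k : K, F (π h' * (k : MulAut W)) := fun a =>
        Fintype.prod_equiv (Equiv.mulLeft ((π.comp ι).rangeRestrict a)) _ _ fun k => rfl
      have e3 : (∏ a : A, F (π (h' * ι a))) ^ Fintype.card K =
          (∏ k : K, F (π h' * (k : MulAut W))) ^ Fintype.card A := by
        calc (∏ a : A, F (π (h' * ι a))) ^ Fintype.card K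
            = ∏ k : K, ∏ a : A, F (π h' * ((π.comp ι) a * (k : MulAut W))) := by
              rw [Finset.prod_congr rfl fun k _ => e1 k, Finset.prod_const, Finset.card_univ]
          _ = ∏ a : A, ∏ k : K, F (π h' * ((π.comp ι) a * (k : MulAut W))) := Finset.prod_comm
          _ = _ := by
              rw [Finset.prod_congr rfl fun a _ => e2 a, Finset.prod_const, Finset.card_univ]
      refine (Nat.pow_le_pow_iff_left (Fintype.card_ne_zero (α := K))).mp ?_
      rw [pow_right_comm, e3, pow_right_comm, pow_right_comm (Nat.card W)]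
      exact Nat.pow_le_pow_left hi _
    have hfU : fixAll AU = ⊥ := by
      rw [eq_bot_iff]
      intro u hu
      have : (u : V) ∈ fixAll A := fun a ha =>
        congrArg Subtype.val (hu _ ⟨⟨a, ha⟩, rfl⟩)
      rw [hfix, Subgroup.mem_bot] at this
      exact Subgroup.mem_bot.mpr (Subtype.ext this)
    have hfQ : fixAll AQ = ⊥ := by
      rw [eq_bot_iff]
      intro q hq
      induction q using QuotientGroup.induction_on with
      | _ v =>
        rw [Subgroup.mem_bot, QuotientGroup.eq_one_iff]
        have hw : orbitProd A v = 1 := by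
          have := orbitProd_mem A v
          rwa [hfix, Subgroup.mem_bot] at this
        have hq' : ∀ a : A, (((a : MulAut V) v : V) : V ⧸ U) = (v : V ⧸ U) :=
          fun a => hq _ ⟨a, rfl⟩
        have hpw : ((v ^ Nat.card A : V) : V ⧸ U) = 1 := by
          calc ((v ^ Nat.card A : V) : V ⧸ U)
              = ∏ a : A, (((a : MulAut V) v : V) : V ⧸ U) := by
                rw [Finset.prod_congr rfl fun a _ => hq' a, Finset.prod_const, Finset.card_univ,
                  Fintype.card_eq_nat_card, QuotientGroup.mk_pow]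
            _ = ((orbitProd A v : V) : V ⧸ U) := by
                rw [orbitProd_apply]
                exact (map_prod (QuotientGroup.mk' U) _ _).symm
            _ = 1 := by rw [hw]; rfl
        rw [QuotientGroup.mk_pow] at hpw
        exact (QuotientGroup.eq_one_iff v).mp (orderOf_eq_one_iff.mp (Nat.eq_one_of_dvd_coprimes
          (Nat.Coprime.coprime_dvd_right (Dvd.intro_left _ hcard) hcop)
          (orderOf_dvd_of_pow_eq_one hpw) (orderOf_dvd_natCard _)))
    have i1 := hgen U (resHom U) hUlt (hcop.coprime_dvd_right (Dvd.intro _ hcard)) hfU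
    have i2 := hgen (V ⧸ U) (quoHom U) hQlt (hcop.coprime_dvd_right (Dvd.intro_left _ hcard)) hfQ
    calc (∏ a : A, Nat.card (fix (h * (a : MulAut V)))) ^ 2
        ≤ (∏ a : A, Nat.card (fix (resHom U (h' * ι a))) *
            Nat.card (fix (quoHom U (h' * ι a)))) ^ 2 :=
          Nat.pow_le_pow_left (Finset.prod_le_prod' fun a _ => fix_le_mul U (h' * ι a)) 2
      _ ≤ Nat.card U ^ Fintype.card A * Nat.card (V ⧸ U) ^ Fintype.card A := by
          rw [Finset.prod_mul_distrib, mul_pow]
          exact Nat.mul_le_mul i1 i2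
      _ = Nat.card V ^ Fintype.card A := by rw [← mul_pow, hcard]
  have hirr : ∀ U : Subgroup V, U ≠ ⊥ → (∀ u ∈ U, h u ∈ U) → (∀ a ∈ A, ∀ u ∈ U, a u ∈ U) →
      U = ⊤ := by
    intro U h0 h1 h2
    by_contra h3
    refine hred ⟨U, h0, h3, ?_, fun a ha => ?_⟩
    · intro u
      have : U.map h.toMonoidHom = U :=
        Subgroup.eq_of_le_of_card_ge (Subgroup.map_le_iff_le_comap.mpr h1)
          (Subgroup.card_map_of_injective h.injective).ge
      exact ⟨fun hu => by
        rw [← this] at hu
        obtain ⟨w, hw, hwu⟩ := hu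
        rwa [← h.injective hwu], h1 u⟩
    · intro u
      refine ⟨fun hu => ?_, h2 a ha u⟩
      simpa using h2 a⁻¹ (inv_mem ha) _ hu
  -- a maximal subgroup of `A` with fixed points
  obtain ⟨B, ⟨hBA, hB0⟩, hBmax⟩ := Finite.exists_le_maximal (α := Subgroup (MulAut V))
    (p := fun B => B ≤ A ∧ fixAll B ≠ ⊥) (a := ⊥) ⟨bot_le, by
      obtain ⟨v, hv⟩ := exists_ne (1 : V)
      intro e
      refine hv (Subgroup.mem_bot.mp (e ▸ fun a ha => ?_ : v ∈ (⊥ : Subgroup V)))
      rw [Subgroup.mem_bot.mp ha]; rfl⟩ |>.imp fun B hB => hB.2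
  have hgt : ∀ {C : Subgroup (MulAut V)}, C ≤ A → ¬ C ≤ B → fixAll (B ⊔ C) = ⊥ := by
    intro C hC hCB
    by_contra e
    exact hCB (le_sup_right.trans (hBmax ⟨sup_le hBA hC, e⟩ le_sup_left))
  have hBne : ¬ A ≤ B := fun e => hB0 (by rw [le_antisymm hBA e]; exact hfix)
  by_cases hBinv : ∀ b ∈ B, h * b * h⁻¹ ∈ B
  · -- invariant kernel
    have htop : fixAll B = ⊤ := by
      refine hirr _ hB0 (fun u hu b hb => ?_) fun a ha u hu b hb => ?_
      · have hmap : B.map (MulAut.conj h).toMonoidHom = B :=
          Subgroup.eq_of_le_of_card_ge (Subgroup.map_le_iff_le_comap.mpr hBinv)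
            (Subgroup.card_map_of_injective (MulAut.conj h).injective).ge
        exact fixAll_conj B h hu b (hmap.symm ▸ hb)
      · rw [← MulAut.mul_apply, hcomm b (hBA hb) a ha, MulAut.mul_apply, hu b hb]
    obtain ⟨a₀, ha₀A, ha₀B⟩ := SetLike.not_le_iff_exists.mp hBne
    have hfp : ∀ v, a₀ v = v → v = 1 := by
      intro v hv
      have hvB : v ∈ fixAll (B ⊔ Subgroup.zpowers a₀) := by
        intro x hx
        have : B ⊔ Subgroup.zpowers a₀ ≤ MulAction.stabilizer (MulAut V) v :=
          sup_le (fun b hb => (htop ▸ Subgroup.mem_top v : v ∈ fixAll B) b hb)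
            (Subgroup.zpowers_le.mpr hv)
        exact this hx
      rw [hgt (Subgroup.zpowers_le.mpr ha₀A) (fun e => ha₀B (e (Subgroup.mem_zpowers _)))] at hvB
      exact Subgroup.mem_bot.mp hvB
    calc (∏ a : A, Nat.card (fix (h * (a : MulAut V)))) ^ 2
        = ∏ a : A, Nat.card (fix (h * (a : MulAut V))) *
            Nat.card (fix (h * (a : MulAut V) * a₀)) := by
          rw [Finset.prod_mul_distrib, sq]
          congr 1
          refine (Fintype.prod_equiv (Equiv.mulRight (⟨a₀, ha₀A⟩ : A)) _ _ fun a => ?_).symm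
          rw [mul_assoc]; rfl
      _ ≤ ∏ _a : A, Nat.card V := Finset.prod_le_prod' fun a _ =>
          pair_le fun v hv _ => hfp v hv
      _ = Nat.card V ^ Fintype.card A := by rw [Finset.prod_const, Finset.card_univ]
  · -- moved kernel
    let U := fixAll B
    let Bi : ℕ → Subgroup (MulAut V) := fun i => B.map (MulAut.conj (h ^ i)).toMonoidHom
    have hB0' : Bi 0 = B := by
      ext b
      simp [Bi]
    have hBisucc : ∀ i, Bi (i + 1) = (Bi i).map (MulAut.conj h).toMonoidHom := by
      intro i
      simp only [Bi]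
      rw [Subgroup.map_map]
      refine congrArg (B.map ·) (MonoidHom.ext fun b => ?_)
      simp [pow_succ', mul_assoc]
    have hBiA : ∀ i, Bi i ≤ A := by
      intro i
      induction i with
      | zero => rw [hB0']; exact hBA
      | succ i hi =>
        rw [hBisucc]
        rintro _ ⟨b, hb, rfl⟩
        exact hnorm b (hi hb)
    have hBicard : ∀ i, Nat.card (Bi i) = Nat.card B := fun i =>
      Subgroup.card_map_of_injective (MulAut.conj (h ^ i)).injective
    have hmeet : ∀ i j, Bi i ≠ Bi j → fixAll (Bi i) ⊓ fixAll (Bi j) = ⊥ := by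
      intro i j hne
      rw [eq_bot_iff]
      rintro v ⟨hvi, hvj⟩
      set w := (h ^ i)⁻¹ v with hw
      have hwv : (h ^ i) w = v := MulAut.apply_inv_self _ _ _
      have hwB : w ∈ fixAll B := fun b hb => by
        apply (h ^ i).injective
        have h1 := hvi _ ⟨b, hb, rfl⟩
        change (h ^ i * b * (h ^ i)⁻¹) v = v at h1
        rw [hwv, hw]
        simpa using h1
      set C := (Bi j).map (MulAut.conj (h ^ i)⁻¹).toMonoidHom
      have hwC : w ∈ fixAll C := fixAll_conj (Bi j) _ hvj
      have hAinv : ∀ a ∈ A, (h ^ i)⁻¹ * a * ((h ^ i)⁻¹)⁻¹ ∈ A := by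
        have hmap : A.map (MulAut.conj h).toMonoidHom = A :=
          Subgroup.eq_of_le_of_card_ge (Subgroup.map_le_iff_le_comap.mpr hnorm)
            (Subgroup.card_map_of_injective (MulAut.conj h).injective).ge
        have hmem : h ∈ Subgroup.normalizer (A : Set (MulAut V)) := by
          intro a
          refine ⟨hnorm a, fun ha => ?_⟩
          have ha' := ha
          rw [SetLike.mem_coe, ← hmap] at ha'
          obtain ⟨a', ha', e⟩ := ha'
          rwa [← (MulAut.conj h).injective e]
        exact fun a ha => (inv_mem (pow_mem hmem i) a).mp ha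
      have hCA : C ≤ A := by
        rintro _ ⟨b, hb, rfl⟩
        exact hAinv b (hBiA j hb)
      have hCB : ¬ C ≤ B := by
        intro e
        have hCe : C = B := Subgroup.eq_of_le_of_card_ge e (by
          rw [Subgroup.card_map_of_injective (MulAut.conj (h ^ i)⁻¹).injective, hBicard])
        refine hne (SetLike.ext fun b => ⟨?_, fun hb => ?_⟩)
        · rintro ⟨b', hb', rfl⟩
          rw [← hCe] at hb'
          obtain ⟨b'', hb'', rfl⟩ := hb'
          simpa [mul_assoc] using hb''
        · refine ⟨(h ^ i)⁻¹ * b * ((h ^ i)⁻¹)⁻¹, hCe ▸ ⟨b, hb, rfl⟩, ?_⟩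
          show h ^ i * ((h ^ i)⁻¹ * b * ((h ^ i)⁻¹)⁻¹) * (h ^ i)⁻¹ = b
          group
      have hwBC : w ∈ fixAll (B ⊔ C) := fun x hx =>
        (sup_le (fun b hb => hwB b hb) (fun c hc => hwC c hc) :
          B ⊔ C ≤ MulAction.stabilizer (MulAut V) w) hx
      rw [hgt hCA hCB, Subgroup.mem_bot] at hwBC
      rw [Subgroup.mem_bot, ← hwv, hwBC, map_one]
    -- the orbit spans
    have hspan : ⨆ i, fixAll (Bi i) = ⊤ := by
      refine hirr _ (fun e => hB0 ?_) ?_ ?_
      · refine le_bot_iff.mp (e ▸ ?_)
        conv_lhs => rw [← hB0']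
        exact le_iSup (fun i => fixAll (Bi i)) 0
      · intro u hu
        induction hu using Subgroup.iSup_induction' with
        | hp i u hu =>
          exact Subgroup.mem_iSup_of_mem (i + 1) (hBisucc i ▸ fixAll_conj (Bi i) h hu)
        | h1 => simp
        | hmul x y _ _ hx hy => rw [map_mul]; exact mul_mem hx hy
      · intro a ha u hu
        induction hu using Subgroup.iSup_induction' with
        | hp i u hu =>
          refine Subgroup.mem_iSup_of_mem i fun b hb => ?_
          rw [← MulAut.mul_apply, hcomm b (hBiA i hb) a ha, MulAut.mul_apply, hu b hb]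
        | h1 => simp
        | hmul x y _ _ hx hy => rw [map_mul]; exact mul_mem hx hy
    let Ω : Finset (Subgroup (MulAut V)) :=
      (Set.toFinite (Set.range Bi)).toFinset
    let P : V →* V := ∏ C ∈ Ω, orbitProd C
    have hP : ∀ v, P v = v ^ Nat.card B := by
      have : (⨆ i, fixAll (Bi i)) ≤ MonoidHom.eqLocus P (powMonoidHom (Nat.card B)) := by
        refine iSup_le fun i u hu => ?_
        show P u = u ^ Nat.card B
        rw [MonoidHom.finsetProd_apply, Finset.prod_eq_single (Bi i), orbitProd_of_mem hu, hBicard]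
        · intro C hC hne
          obtain ⟨j, rfl⟩ := (Set.Finite.mem_toFinset _).mp hC
          have h1 : orbitProd (Bi j) u ∈ fixAll (Bi i) ⊓ fixAll (Bi j) := by
            refine ⟨fun b hb => ?_, orbitProd_mem _ u⟩
            rw [orbitProd_comm (fun c => ?_) u, hu b hb]
            have hc' : ∀ c ∈ A, b * c * b⁻¹ = c := fun c hc => by
              rw [hcomm b (hBiA i hb) c hc, mul_inv_cancel_right]
            refine ⟨fun hc => ?_, fun hc => by rw [hc' c (hBiA j hc)]; exact hc⟩
            have hcA : c ∈ A := by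
              have := mul_mem (mul_mem (inv_mem (hBiA i hb)) (hBiA j hc)) (hBiA i hb)
              simpa [mul_assoc] using this
            rwa [hc' c hcA] at hc
          rw [hmeet i j (Ne.symm hne), Subgroup.mem_bot] at h1
          exact h1
        · intro hni
          exact absurd ((Set.Finite.mem_toFinset _).mpr (Set.mem_range_self i)) hni
      exact fun v => this (hspan ▸ Subgroup.mem_top v)
    -- injectivity of the projection
    have hle : ∀ a : A, Nat.card (fix (h * (a : MulAut V))) ≤ Nat.card U := by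
      intro a
      refine Nat.card_le_card_of_injective (fun v => (⟨orbitProd B v.1, orbitProd_mem B v.1⟩ : U))
        ((injective_iff_map_eq_one ((orbitProd B).comp
          (fix (h * (a : MulAut V))).subtype |>.codRestrict U fun v => orbitProd_mem B _)).mpr
          fun v hv => Subtype.ext ?_)
      have hv0 : orbitProd B v.1 = 1 := congrArg Subtype.val hv
      refine hvpow _ (Subgroup.card_dvd_of_le hBA) v.1 ?_
      rw [← hP, MonoidHom.finsetProd_apply]
      refine Finset.prod_eq_one fun C hC => ?_
      obtain ⟨i, rfl⟩ := (Set.Finite.mem_toFinset _).mp hC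
      induction i with
      | zero => rw [hB0']; exact hv0
      | succ i hi =>
        have hconjB : Bi (i + 1) = (Bi i).map (MulAut.conj (h * (a : MulAut V))).toMonoidHom := by
          rw [hBisucc]
          refine SetLike.ext fun b => ⟨?_, ?_⟩ <;> rintro ⟨c, hc, rfl⟩ <;> refine ⟨c, hc, ?_⟩
          all_goals
            show _ * c * _ = _ * c * _
            have := hcomm a a.2 c (hBiA i hc)
            simp [mul_assoc, this]
        have hfx : (h * (a : MulAut V)) v.1 = v.1 := v.2
        rw [hconjB, ← hfx, orbitProd_conj, hi ((Set.Finite.mem_toFinset _).mpr ⟨i, rfl⟩), map_one]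
    have hUU : Nat.card U * Nat.card U ≤ Nat.card V := by
      have h1 : Bi 0 ≠ Bi 1 := by
        intro e
        refine hBinv fun b hb => ?_
        rw [← hB0', e, hBisucc, hB0']
        exact ⟨b, hb, rfl⟩
      have h2 := hmeet 0 1 h1
      rw [hB0'] at h2
      let hU : U →* V := h.toMonoidHom.comp U.subtype
      have hr : hU.range ≤ fixAll (Bi 1) := by
        rintro _ ⟨u, rfl⟩
        rw [hBisucc, hB0']
        exact fixAll_conj B h u.2
      have hdis : Disjoint U hU.range := by
        rw [disjoint_iff, eq_bot_iff, ← h2]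
        exact inf_le_inf_left _ hr
      have := Nat.card_le_card_of_injective _ (Subgroup.mul_injective_of_disjoint hdis)
      rw [Nat.card_prod] at this
      rwa [Nat.card_congr (MonoidHom.ofInjective (f := hU)
        (h.injective.comp U.subtype_injective)).toEquiv.symm] at this
    calc (∏ a : A, Nat.card (fix (h * (a : MulAut V)))) ^ 2
        ≤ (∏ _a : A, Nat.card U) ^ 2 :=
          Nat.pow_le_pow_left (Finset.prod_le_prod' fun a _ => hle a) 2
      _ ≤ Nat.card V ^ Fintype.card A := by
          rw [Finset.prod_const, Finset.card_univ, ← pow_mul, mul_comm, pow_mul, sq]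
          exact Nat.pow_le_pow_left hUU _

/-- Solvable groups acting irreducibly. -/
theorem prod_fix_sq_le {Γ : Type w} [Group Γ] [Fintype Γ] [Group.IsSolvable Γ] {p : ℕ}
    [Fact p.Prime] (hV : IsPGroup p V) (f : Γ →* MulAut V) (hne : ∃ g, f g ≠ 1)
    (hirr : ∀ U : Subgroup V, (∀ g, ∀ u ∈ U, f g u ∈ U) → U = ⊥ ∨ U = ⊤) :
    (∏ g, Nat.card (fix (f g))) ^ 2 ≤ Nat.card V ^ Fintype.card Γ := by
  classical
  haveI : Finite (MulAut V) := Finite.of_injective (fun φ : MulAut V => (φ : V → V))
    DFunLike.coe_injective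
  obtain ⟨A, hAn, hAne, hAc⟩ : ∃ A : Subgroup f.range, A.Normal ∧ A ≠ ⊥ ∧
      ∀ a ∈ A, ∀ b ∈ A, a * b = b * a := by
    obtain ⟨k, hk⟩ := (Group.isSolvable_def f.range).mp
      (solvable_of_surjective f.rangeRestrict_surjective)
    have hd : ∃ k, derivedSeries f.range k ≠ ⊥ ∧ derivedSeries f.range (k + 1) = ⊥ := by
      have h0 : derivedSeries f.range 0 ≠ ⊥ := by
        rw [derivedSeries_zero]
        haveI : Nontrivial f.range := by
          rw [Subgroup.nontrivial_iff_ne_bot]
          intro e
          obtain ⟨g, hg⟩ := hne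
          exact hg (Subgroup.mem_bot.mp (e ▸ ⟨g, rfl⟩ : f g ∈ (⊥ : Subgroup (MulAut V))))
        exact top_ne_bot
      by_contra hno
      push_neg at hno
      exact (Nat.rec h0 (fun i hi => hno i hi) k : derivedSeries f.range k ≠ ⊥) hk
    obtain ⟨i, hi, hi'⟩ := hd
    refine ⟨_, derivedSeries_normal _ i, hi, fun a ha b hb => ?_⟩
    rw [derivedSeries_succ] at hi'
    have := Subgroup.commutator_mem_commutator ha hb
    rw [hi', Subgroup.mem_bot] at this
    exact commutatorElement_eq_one_iff_mul_comm.mp this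
  -- normal subgroups of the image fix nothing
  have hnofix : ∀ N : Subgroup f.range, N.Normal → N ≠ ⊥ →
      fixAll (N.map f.range.subtype) = ⊥ := by
    intro N hN hN0
    refine (hirr (fixAll (N.map f.range.subtype)) fun g u hu x hx => ?_).resolve_right
      fun e => hN0 ?_
    · obtain ⟨n, hn, rfl⟩ := hx
      have hm := hN.conj_mem n hn ⟨(f g)⁻¹, inv_mem ⟨g, rfl⟩⟩
      have := hu _ ⟨_, hm, rfl⟩
      simp only [Subgroup.subtype_apply, Subgroup.coe_mul, Subgroup.coe_inv, inv_inv,
        MulAut.mul_apply] at this ⊢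
      conv_rhs => rw [← this]
      rw [MulAut.apply_inv_self]
    · refine (Subgroup.eq_bot_iff_forall N).mpr fun n hn => Subtype.ext (MulEquiv.ext fun v => ?_)
      exact (e ▸ Subgroup.mem_top v : v ∈ fixAll (N.map f.range.subtype)) _ ⟨n, hn, rfl⟩
  haveI : Finite V := inferInstance
  have hAfix := hnofix A hAn hAne
  have hVne : ¬ Subsingleton V := by
    intro hS
    obtain ⟨g, hg⟩ := hne
    exact hg (MulEquiv.ext fun v => Subsingleton.elim _ _)
  haveI : Nontrivial V := not_subsingleton_iff_nontrivial.mp hVne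
  have hcop : (Nat.card A).Coprime (Nat.card V) := by
    obtain ⟨k, hk⟩ := IsPGroup.iff_card.mp hV
    rw [hk]
    refine Nat.Coprime.pow_right _ (Nat.Coprime.symm ((Nat.Prime.coprime_iff_not_dvd
      (Fact.out : p.Prime)).mpr fun hdvd => ?_))
    -- the p-part of A would fix a vector
    haveI := hAn
    let Ap : Subgroup f.range :=
      { carrier := {a | a ∈ A ∧ ∃ j, a ^ p ^ j = 1}
        one_mem' := ⟨one_mem _, 0, by simp⟩
        mul_mem' := fun {a b} ha hb => by
          obtain ⟨ha, i, hi⟩ := ha
          obtain ⟨hb, j, hj⟩ := hb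
          refine ⟨mul_mem ha hb, i + j, ?_⟩
          rw [(show Commute a b from hAc a ha b hb).mul_pow, pow_add, pow_mul, hi, one_pow,
            one_mul, mul_comm, pow_mul, hj, one_pow]
        inv_mem' := fun {a} ha => ⟨inv_mem ha.1, ha.2.imp fun j hj => by rw [inv_pow, hj, inv_one]⟩ }
    have hApn : Ap.Normal := ⟨fun a ha g => ⟨hAn.conj_mem a ha.1 g,
      ha.2.imp fun j hj => by rw [conj_pow, hj, mul_one, mul_inv_cancel]⟩⟩
    obtain ⟨a, ha⟩ := exists_prime_orderOf_dvd_card' (G := A) p hdvd
    have hApne : Ap ≠ ⊥ := by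
      intro e
      have : (a : f.range) ∈ Ap := ⟨a.2, 1, by
        rw [pow_one, ← SubmonoidClass.coe_pow, ← ha, pow_orderOf_eq_one]; rfl⟩
      rw [e, Subgroup.mem_bot] at this
      have : a = 1 := Subtype.ext this
      rw [this, orderOf_one] at ha
      exact (Fact.out : p.Prime).ne_one ha.symm
    have hApfix := hnofix Ap hApn hApne
    have hpg : IsPGroup p (Ap.map f.range.subtype) := by
      refine IsPGroup.map (fun x => ?_) _
      obtain ⟨j, hj⟩ := x.2.2
      exact ⟨j, Subtype.ext (by rw [SubmonoidClass.coe_pow, hj]; rfl)⟩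
    letI : MulAction (Ap.map f.range.subtype) V := MulAction.compHom V
      (Ap.map f.range.subtype).subtype
    have hpV : p ∣ Nat.card V := (hV.card_eq_or_dvd).resolve_left
      (fun e => hVne (Nat.card_eq_one_iff_unique.mp e).1)
    obtain ⟨v, hv, hv1⟩ := hpg.exists_fixed_point_of_prime_dvd_card_of_fixed_point V hpV
      (a := (1 : V)) (fun x => map_one (x : MulAut V))
    have : v ∈ fixAll (Ap.map f.range.subtype) := fun x hx => hv ⟨x, hx⟩
    rw [hApfix, Subgroup.mem_bot] at this
    exact hv1 this.symm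
  let A' := A.map f.range.subtype
  haveI : Fintype A' := Fintype.ofFinite _
  have hcard : Nat.card A' = Nat.card A := Subgroup.card_map_of_injective f.range.subtype_injective
  have hb : ∀ g : Γ, (∏ a : A', Nat.card (fix (f g * (a : MulAut V)))) ^ 2 ≤
      Nat.card V ^ Fintype.card A' := fun g => by
    refine coset_bound _ V rfl (f g) A' ?_ ?_ (hcard ▸ hcop) hAfix
    · rintro _ ⟨a, ha, rfl⟩
      exact ⟨_, hAn.conj_mem a ha ⟨f g, g, rfl⟩, rfl⟩
    · rintro _ ⟨a, ha, rfl⟩ _ ⟨b, hb, rfl⟩
      exact congrArg Subtype.val (hAc a ha b hb)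
  refine (Nat.pow_le_pow_iff_left (Fintype.card_ne_zero (α := A'))).mp ?_
  rw [pow_right_comm]
  calc ((∏ g, Nat.card (fix (f g))) ^ Fintype.card A') ^ 2
      = (∏ g, ∏ a : A', Nat.card (fix (f g * (a : MulAut V)))) ^ 2 := by
        rw [Finset.prod_comm]
        congr 1
        have : ∀ a : A', ∏ g, Nat.card (fix (f g * (a : MulAut V))) = ∏ g, Nat.card (fix (f g)) := by
          rintro ⟨_, a, _, rfl⟩
          obtain ⟨g₀, hg₀⟩ := a.2
          refine Fintype.prod_equiv (Equiv.mulRight g₀) _ _ fun g => ?_
          show _ = Nat.card (fix (f (g * g₀)))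
          rw [map_mul, hg₀]; rfl
        rw [Finset.prod_congr rfl fun a _ => this a, Finset.prod_const, Finset.card_univ]
    _ = ∏ g, (∏ a : A', Nat.card (fix (f g * (a : MulAut V)))) ^ 2 := by
        rw [Finset.prod_pow]
    _ ≤ ∏ _g : Γ, Nat.card V ^ Fintype.card A' := Finset.prod_le_prod' fun g _ => hb g
    _ = (Nat.card V ^ Fintype.card Γ) ^ Fintype.card A' := by
        rw [Finset.prod_const, Finset.card_univ, pow_right_comm]

end Cfsg.Agent.Lib.PrimitiveClass.Average
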