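import Cfsg.Agent.Lib.PrimitiveClass.Algebra
import Cfsg.Agent.Lib.PrimitiveMeta.Restrict
import Cfsg.Agent.Lib.Clifford.Rep
import Cfsg.Agent.Lib.Characters.Diag
import Cfsg.Prelude.Def_CharExt
import Cfsg.Prelude.Def_Blocks

/-!
# Class sizes and degrees of primitive characters of solvable groups
-/

set_option autoImplicit false

namespace Cfsg.Agent.Lib.PrimitiveClass.Main

open Cfsg.Agent.Lib Cfsg.Agent.Lib.Characters.Basic Cfsg.Agent.Lib.Clifford.Basic
open scoped ComplexConjugate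

universe u

variable {G : Type u} [Group G] {n : ℕ} (ρ : Representation ℂ G (Fin n → ℂ))

theorem trace_eq (A : Module.End ℂ (Fin n → ℂ)) :
    LinearMap.trace ℂ _ A = ∑ a, A (Pi.single a 1) a := by
  rw [LinearMap.trace_eq_matrix_trace ℂ (Pi.basisFun ℂ (Fin n))]
  simp [Matrix.trace, LinearMap.toMatrix_apply]

/-- Conjugation in the representation. -/
noncomputable def conjAlg : G →* (Algebra.Mat n ≃ₐ[ℂ] Algebra.Mat n) where
  toFun g :=
    { toFun := fun x => ρ g * x * ρ g⁻¹
      invFun := fun x => ρ g⁻¹ * x * ρ g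
      left_inv := fun x => by
        show ρ g⁻¹ * (ρ g * x * ρ g⁻¹) * ρ g = x
        rw [show ρ g⁻¹ * (ρ g * x * ρ g⁻¹) * ρ g = (ρ g⁻¹ * ρ g) * x * (ρ g⁻¹ * ρ g) by noncomm_ring,
          ← map_mul, inv_mul_cancel, map_one, one_mul, mul_one]
      right_inv := fun x => by
        show ρ g * (ρ g⁻¹ * x * ρ g) * ρ g⁻¹ = x
        rw [show ρ g * (ρ g⁻¹ * x * ρ g) * ρ g⁻¹ = (ρ g * ρ g⁻¹) * x * (ρ g * ρ g⁻¹) by noncomm_ring,
          ← map_mul, mul_inv_cancel, map_one, one_mul, mul_one]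
      map_mul' := fun x y => by
        rw [show ρ g * x * ρ g⁻¹ * (ρ g * y * ρ g⁻¹) = ρ g * x * (ρ g⁻¹ * ρ g) * y * ρ g⁻¹ by
            noncomm_ring, ← map_mul, inv_mul_cancel, map_one, mul_one, mul_assoc (ρ g) x y]
      map_add' := fun x y => by rw [mul_add, add_mul]
      commutes' := fun c => by
        rw [Algebra.algebraMap_eq_smul_one, mul_smul_comm, smul_mul_assoc, mul_one, ← map_mul,
          mul_inv_cancel, map_one] }
  map_one' := AlgEquiv.ext fun x => by
    show ρ 1 * x * ρ 1⁻¹ = x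
    rw [inv_one, map_one, one_mul, mul_one]
  map_mul' g h := AlgEquiv.ext fun x => by
    show ρ (g * h) * x * ρ (g * h)⁻¹ = ρ g * (ρ h * x * ρ h⁻¹) * ρ g⁻¹
    rw [mul_inv_rev, map_mul, map_mul]
    noncomm_ring

theorem conjAlg_apply (g : G) (x : Algebra.Mat n) : conjAlg ρ g x = ρ g * x * ρ g⁻¹ := rfl

theorem commute_of_fixed {g : G} {x : Algebra.Mat n} (h : conjAlg ρ g x = x) :
    x * ρ g = ρ g * x := by
  rw [conjAlg_apply] at h
  conv_lhs => rw [← h]
  rw [mul_assoc, ← map_mul, inv_mul_cancel, map_one, mul_one]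

variable [Fintype G] [ρ.IsIrreducible]

/-- The fixed algebras of normal subgroups have scalar centres. -/
theorem qp (hhom : PrimitiveMeta.Restrict.Homogeneous ρ.character) (hn : 0 < n) :
    Algebra.QP (conjAlg ρ) := by
  classical
  intro L hL z hz hzc
  haveI := hL
  letI : Fintype L := Fintype.ofFinite L
  obtain ⟨φ, hφ⟩ := exists_constituent_restrict L (isIrrCharacter_character ρ)
  have hφinv := hhom L hL inferInstance φ hφ
  have hres := restrict_eq_smul L (isIrrCharacter_character ρ) φ hφ hφinv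
  set e := Cfsg.classInner (fun l : L => ρ.character l) φ
  obtain ⟨d, σ, hσ, hσc⟩ := exists_rep φ
  haveI := hσ
  -- the averaged identity
  have hE : ∀ x : Algebra.Mat n, z * ∑ l : L, ρ l * x * ρ ((l : G)⁻¹) =
      (∑ l : L, ρ l * x * ρ ((l : G)⁻¹)) * z := by
    intro x
    refine hzc _ fun m hm => ?_
    rw [map_sum]
    refine Fintype.sum_equiv (Equiv.mulLeft (⟨m, hm⟩ : L)) _ _ fun l => ?_
    rw [conjAlg_apply, Equiv.coe_mulLeft, Subgroup.coe_mul, mul_inv_rev, map_mul, map_mul]
    noncomm_ring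
  let T : Algebra.Mat n := ∑ l : L, ρ.character l • ρ ((l : G)⁻¹)
  have hTz : ∑ l : L, LinearMap.trace ℂ _ (z * ρ l) • ρ ((l : G)⁻¹) = T * z := by
    refine LinearMap.ext fun w => funext fun b => ?_
    have h : ∀ a : Fin n, ∑ l : L, (ρ ((l : G)⁻¹) w) b * ((z * ρ l) (Pi.single a 1)) a =
        ∑ l : L, (ρ ((l : G)⁻¹) (z w)) b * (ρ l (Pi.single a 1)) a := by
      intro a
      have h1 := congrFun (LinearMap.congr_fun
        (hE (LinearMap.smulRight (LinearMap.proj b) (Pi.single a 1))) w) a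
      simpa [Finset.mul_sum, Finset.sum_mul, LinearMap.sum_apply, Finset.sum_apply] using h1
    have h2 := Finset.sum_congr (rfl : (Finset.univ : Finset (Fin n)) = _) fun a _ => h a
    rw [Finset.sum_comm, Finset.sum_comm (γ := Fin n)] at h2
    simp only [← Finset.mul_sum, ← trace_eq] at h2
    simp only [T, Finset.sum_mul, LinearMap.sum_apply, Finset.sum_apply, LinearMap.smul_apply,
      Pi.smul_apply, smul_eq_mul, Module.End.mul_apply]
    refine (Finset.sum_congr rfl fun l _ => mul_comm _ _).trans (h2.trans ?_)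
    exact Finset.sum_congr rfl fun l _ => mul_comm _ _
  -- `T` is a non-zero scalar
  obtain ⟨t, ht⟩ : ∃ t : ℂ, T = t • 1 := by
    refine Clifford.Rep.schur ρ T fun g => ?_
    simp only [T, Finset.sum_mul, Finset.mul_sum, smul_mul_assoc, mul_smul_comm]
    refine Fintype.sum_equiv (MulAut.conjNormal g⁻¹ : MulAut L).toEquiv _ _ fun l => ?_
    have hm : ((MulAut.conjNormal g⁻¹ l : L) : G) = g⁻¹ * l * g⁻¹⁻¹ := MulAut.conjNormal_apply _ _
    show _ = ρ.character ((MulAut.conjNormal g⁻¹ l : L) : G) •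
      (ρ g * ρ (((MulAut.conjNormal g⁻¹ l : L) : G)⁻¹))
    rw [hm, Representation.char_conj, ← map_mul, ← map_mul]
    congr 2
    group
  have ht0 : t ≠ 0 := by
    intro h0
    rw [h0, zero_smul] at ht
    have h1 := congrArg (LinearMap.trace ℂ (Fin n → ℂ)) ht
    rw [map_zero, map_sum] at h1
    have h2 : ∑ l : L, ((Complex.normSq (ρ.character l) : ℝ) : ℂ) = 0 := by
      rw [← h1]
      refine Finset.sum_congr rfl fun l _ => ?_
      rw [map_smul, smul_eq_mul, show LinearMap.trace ℂ _ (ρ ((l : G)⁻¹)) = ρ.character (l : G)⁻¹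
        from rfl, Characters.Diag.char_inv_eq_conj, Complex.mul_conj]
    rw [← Complex.ofReal_sum, Complex.ofReal_eq_zero,
      Finset.sum_eq_zero_iff_of_nonneg fun l _ => Complex.normSq_nonneg _] at h2
    have h3 := Complex.normSq_eq_zero.mp (h2 1 (Finset.mem_univ _))
    rw [OneMemClass.coe_one, Representation.char_one, Module.finrank_fin_fun] at h3
    exact hn.ne' (by exact_mod_cast h3)
  -- `z` lies in the span
  let f : L → ℂ := fun x => t⁻¹ * LinearMap.trace ℂ _ (z * ρ ((x : G)⁻¹))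
  have hzspan : z = ∑ x : L, f x • ρ x := by
    have : z = t⁻¹ • (T * z) := by
      rw [ht, smul_mul_assoc, one_mul, smul_smul, inv_mul_cancel₀ ht0, one_smul]
    rw [this, ← hTz, Finset.smul_sum]
    refine Fintype.sum_equiv (Equiv.inv L) _ _ fun l => ?_
    simp [f, smul_smul]
  have hfclass : ∀ x y : L, f (y * x * y⁻¹) = f x := by
    intro x y
    simp only [f]
    congr 1
    have hzy := commute_of_fixed ρ (hz (y : G) y.2)
    have hA : z * ρ (((y * x * y⁻¹ : L) : G)⁻¹) = ρ y * (z * ρ ((x : G)⁻¹ * (y : G)⁻¹)) := by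
      calc z * ρ (((y * x * y⁻¹ : L) : G)⁻¹)
          = z * (ρ y * ρ ((x : G)⁻¹ * (y : G)⁻¹)) := by
            rw [← map_mul ρ]
            congr 2
            simp only [Subgroup.coe_mul, Subgroup.coe_inv]
            group
        _ = _ := by rw [← mul_assoc, hzy, mul_assoc]
    have hB : z * ρ ((x : G)⁻¹ * (y : G)⁻¹) * ρ y = z * ρ ((x : G)⁻¹) := by
      rw [mul_assoc, ← map_mul ρ, inv_mul_cancel_right]
    rw [hA, LinearMap.trace_mul_comm, hB]
  obtain ⟨c, hc⟩ : ∃ c : ℂ, ∑ x : L, f x • σ x = c • 1 := by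
    refine Clifford.Rep.schur σ _ fun y => ?_
    rw [Finset.sum_mul, Finset.mul_sum]
    refine Fintype.sum_equiv (MulAut.conj y⁻¹).toEquiv _ _ fun x => ?_
    show f x • σ x * σ y = σ y * f (y⁻¹ * x * y⁻¹⁻¹) • σ (y⁻¹ * x * y⁻¹⁻¹)
    rw [hfclass, smul_mul_assoc, mul_smul_comm, ← map_mul, ← map_mul]
    congr 2
    group
  have htr : ∀ y : L, LinearMap.trace ℂ _ (z * ρ y) = c * ρ.character y := by
    intro y
    have h1 : ∑ x : L, f x * (φ : L → ℂ) (x * y) = c * (φ : L → ℂ) y := by
      rw [← hσc]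
      have := congrArg (fun A => LinearMap.trace ℂ _ (A * σ y)) hc
      simpa [Representation.character, Finset.sum_mul, map_sum, map_mul] using this
    have h2 : ∀ x : L, ρ.character x = e * (φ : L → ℂ) x := fun x => congrFun hres x
    rw [hzspan, Finset.sum_mul, map_sum, h2, mul_left_comm, ← h1, Finset.mul_sum]
    refine Finset.sum_congr rfl fun x _ => ?_
    rw [smul_mul_assoc, map_smul, ← map_mul, smul_eq_mul, mul_left_comm, ← h2]
    rfl
  refine ⟨c, ?_⟩
  have hTc : T * z = c • T := by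
    rw [← hTz, Finset.smul_sum]
    exact Finset.sum_congr rfl fun l _ => by rw [htr, smul_smul]
  rw [ht, smul_mul_assoc, one_mul, smul_comm] at hTc
  exact smul_right_injective _ ht0 hTc

omit [Group G] in
/-- A primitive character of a solvable group: some class size has at least the `p`-part of the
degree. -/
theorem exists_class {G : Type u} [Group G] [Fintype G] [Group.IsSolvable G]
    (χ : Cfsg.IrrCharacter G)
    (hprim : ¬ ∃ (H : Subgroup G), H ≠ ⊤ ∧ ∃ θ : ↥H → ℂ, Cfsg.IsCharacter ↥H θ ∧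
      Cfsg.indFun H θ = (χ : G → ℂ)) (p : ℕ) [Fact p.Prime] :
    ∃ g : G, (Cfsg.charDegree (χ : G → ℂ)).factorization p ≤
      ((Subgroup.centralizer ({g} : Set G)).index).factorization p := by
  obtain ⟨n, ρ, hρ, hχ⟩ := χ.2
  haveI := hρ
  haveI : Nontrivial (Fin n → ℂ) := Clifford.Rep.nontrivial_of_irreducible ρ
  have hn : 0 < n := by
    rw [← Module.finrank_fin_fun (R := ℂ) (n := n)]
    exact Module.finrank_pos
  have hhom := PrimitiveMeta.Restrict.homogeneous_of_primitive χ.2 hprim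
  rw [← hχ] at hhom
  have hirr : Algebra.Irred (conjAlg ρ) := fun x hx =>
    Clifford.Rep.schur ρ x fun g => commute_of_fixed ρ (hx g)
  have h := Algebra.sum_le p _ G rfl n hn (conjAlg ρ) hirr (qp ρ hhom hn)
  have hdeg : Cfsg.charDegree (χ : G → ℂ) = n := by
    rw [Cfsg.charDegree, ← hχ, Representation.char_one, Module.finrank_fin_fun,
      Complex.natCast_re, Nat.floor_natCast]
  rw [hdeg]
  by_contra hno
  push Not at hno
  have hlt : ∑ g : G, Algebra.clsExp p g < ∑ _g : G, n.factorization p :=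
    Finset.sum_lt_sum_of_nonempty Finset.univ_nonempty fun g _ => hno g
  rw [Finset.sum_const, Finset.card_univ, smul_eq_mul] at hlt
  omega

end Cfsg.Agent.Lib.PrimitiveClass.Main
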